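import Mathlib
import Groth.Prelude.Def_AlgSp4
import Groth.Agent.Lib.Helper2.AlgSp.QuotOpen
import Groth.Agent.Lib.Helper2.AlgSp.Points

/-!
# Field valued points with the same image (helper2)
-/

set_option autoImplicit false
universe u
open CategoryTheory CategoryTheory.Limits AlgebraicGeometry Opposite AlgSp
open Groth.Agent.Helper2.AlgSpBasic

namespace Groth.Agent.Helper2.Lqf

variable {S : Scheme.{u}}

/-- Two points with the same image are represented by morphisms from the spectrum of a common field
which agree after composing. -/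
theorem exists_field_of_map_eq {A B C : Sp S} (φ : A ⟶ C) (ψ : B ⟶ C) (y : Points A)
    (z : Points B) (h : Points.map φ y = Points.map ψ z) :
    ∃ (Ω : Type u) (_ : Field Ω) (w : Spec (CommRingCat.of Ω) ⟶ S)
      (α : (yon S).obj (Over.mk w) ⟶ A) (β : (yon S).obj (Over.mk w) ⟶ B),
      α ≫ φ = β ≫ ψ ∧ (∀ pt, Points.ofPt α pt = y) ∧ (∀ pt, Points.ofPt β pt = z) := by
  induction y using Points.ind with | h p => ?_
  induction z using Points.ind with | h q => ?_
  rw [Points.map_mk, Points.map_mk, Points.mk_eq_mk_iff] at h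
  obtain ⟨Ω, _, w, a, b, hab⟩ := h
  refine ⟨Ω, inferInstance, w, (J S).uliftYonedaEquiv.{u+1}.symm (A.obj.map a.op p.val),
    (J S).uliftYonedaEquiv.{u+1}.symm (B.obj.map b.op q.val), ?_, fun pt => ?_, fun pt => ?_⟩
  · apply (J S).uliftYonedaEquiv.{u+1}.injective
    rw [GrothendieckTopology.uliftYonedaEquiv_comp, GrothendieckTopology.uliftYonedaEquiv_comp,
      Equiv.apply_symm_apply, Equiv.apply_symm_apply]
    change φ.hom.app _ (A.obj.map a.op p.val) = ψ.hom.app _ (B.obj.map b.op q.val)
    rw [NatTrans.naturality_apply, NatTrans.naturality_apply]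
    exact hab
  · rw [Groth.Agent.Helper2.QuotOpen.ofPt_spec_field, Equiv.apply_symm_apply]
    exact Groth.Agent.Helper2.PreEqv.mk_restrict p w a
  · rw [Groth.Agent.Helper2.QuotOpen.ofPt_spec_field, Equiv.apply_symm_apply]
    exact Groth.Agent.Helper2.PreEqv.mk_restrict q w b

/-- The image on points of a morphism from a scheme is the set of images of its points. -/
theorem range_points_map_yon {F : Sp S} {U : Over S} (a : (yon S).obj U ⟶ F) :
    Set.range (Points.map a) = Set.range (Points.ofPt a) := by
  apply Set.Subset.antisymm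
  · rintro _ ⟨p, rfl⟩
    obtain ⟨t, rfl⟩ := (Points.schemeHomeo U).surjective p
    refine ⟨t, ?_⟩
    rw [Points.ofPt_eq_map_ofScheme]
    rfl
  · rintro _ ⟨t, rfl⟩
    exact ⟨Points.ofScheme U t, (Points.ofPt_eq_map_ofScheme a t).symm⟩

end Groth.Agent.Helper2.Lqf
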