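import Mathlib
import Groth.Prelude.Def_AlgSp4
import Groth.Agent.Lib.Helper2.AlgSp.RepDesc2
import Groth.Agent.Lib.Helper2.Desc.SepLqf2
import Groth.Agent.Lib.Helper2.AlgSp.OpenSub
import Groth.Agent.Lib.Helper2.AlgSp.LocP
import Groth.Agent.Lib.Helper2.AlgSp.Thick

/-!
# Descent of representability for separated locally quasi-finite spaces over a scheme (helper2)
-/

set_option autoImplicit false
universe u
open CategoryTheory CategoryTheory.Limits AlgebraicGeometry Opposite AlgSp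
open Groth.Agent.Helper2.AlgSpBasic Groth.Agent.Helper2.EtaleLocal

namespace Groth.Agent.Helper2.Lqf

variable {S : Scheme.{u}}

/-- If `Uo ⟶ h_T` is separated and locally quasi-finite, `g : T' ⟶ T` is flat and locally of finite
presentation, the base change `Uo ×_T T'` is a scheme and maps onto `Uo`, then `Uo` is a scheme. -/
theorem exists_iso_yon_of_bc {Uo : Sp S} (hU : IsAlgSpace Uo) {T T' : Over S}
    (fU : Uo ⟶ (yon S).obj T) (hsep : IsSeparatedMor fU)
    (hqf : LocP (@LocallyQuasiFinite ⊓ @LocallyOfFiniteType) fU) (g : T' ⟶ T)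
    (hgf : Flat g.left) (hgp : LocallyOfFinitePresentation g.left)
    {U' : Sp S} (pr : U' ⟶ Uo) (f' : U' ⟶ (yon S).obj T')
    (sq : IsPullback pr f' fU ((yon S).map g)) (hsurj : Function.Surjective (Points.map pr))
    {W' : Over S} (e : (yon S).obj W' ≅ U') :
    ∃ W : Over S, Nonempty ((yon S).obj W ≅ Uo) := by
  have hU' : IsAlgSpace U' := isAlgSpace_of_isPullback (IsAlgSpace.yon_obj T).diag hU
    (IsAlgSpace.yon_obj T') fU _ pr f' sq
  have hflat : LocP @Flat pr := locP_of_repWith @Flat hU'.diag pr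
    (repWith_of_isPullback @Flat sq.flip ((repWith_yon_map_iff @Flat g).2 hgf))
  have hlfp : LocP @LocallyOfFinitePresentation pr :=
    locP_of_repWith @LocallyOfFinitePresentation hU'.diag pr
      (repWith_of_isPullback @LocallyOfFinitePresentation sq.flip
        ((repWith_yon_map_iff @LocallyOfFinitePresentation g).2 hgp))
  have : Sheaf.IsLocallySurjective pr :=
    isLocallySurjective_of_locP_fppf_surjective hU' hU pr hflat hlfp hsurj
  have : Epi pr := inferInstance
  -- the open image of `g`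
  have hopen : IsOpen (Set.range g.left) := g.left.isOpenMap.isOpen_range
  let T₀ : T.left.Opens := ⟨Set.range g.left, hopen⟩
  obtain ⟨g₀', hg₀'⟩ : ∃ g₀' : T'.left ⟶ (T₀ : Scheme.{u}), g₀' ≫ T₀.ι = g.left :=
    ⟨IsOpenImmersion.lift T₀.ι g.left (by rw [Scheme.Opens.range_ι]; rfl),
      IsOpenImmersion.lift_fac _ _ _⟩
  let g₀ : T' ⟶ opensOver T₀ := Over.homMk g₀' (by
    change g₀' ≫ T₀.ι ≫ T.hom = T'.hom
    rw [← Category.assoc, hg₀', Over.w])
  have hg₀ : g₀ ≫ opensOverι T₀ = g := Over.OverMorphism.ext hg₀'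
  have hg₀f : Flat g₀.left :=
    MorphismProperty.of_postcomp (W := @Flat) (W' := @IsOpenImmersion) g₀' T₀.ι inferInstance
      (by rw [hg₀']; exact hgf)
  have hg₀p : LocallyOfFinitePresentation g₀.left :=
    MorphismProperty.of_postcomp (W := @LocallyOfFinitePresentation) (W' := @IsOpenImmersion)
      g₀' T₀.ι inferInstance (by rw [hg₀']; exact hgp)
  have hg₀s : Surjective g₀.left := by
    refine ⟨fun t₀ => ?_⟩
    obtain ⟨t', ht'⟩ := t₀.2
    refine ⟨t', ?_⟩
    apply T₀.ι.isOpenEmbedding.injective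
    change (g₀' ≫ T₀.ι) t' = T₀.ι t₀
    rw [hg₀']
    exact ht'
  have : Mono ((yon S).map (opensOverι T₀)) :=
    Groth.Agent.Helper2.AlgSpBasic.mono_of_repWith_isOpenImmersion _
      ((repWith_yon_map_iff @IsOpenImmersion _).2 (inferInstanceAs (IsOpenImmersion T₀.ι)))
  obtain ⟨f₀, hf₀1, hf₀2⟩ := exists_lift_of_epi_mono pr ((yon S).map (opensOverι T₀)) fU
    (f' ≫ (yon S).map g₀) (by rw [Category.assoc, ← Functor.map_comp, hg₀]; exact sq.w)
  have sqR : IsPullback (𝟙 _) ((yon S).map g₀) ((yon S).map g) ((yon S).map (opensOverι T₀)) :=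
    isPullback_id_of_mono _ _ _ (by rw [← Functor.map_comp, hg₀])
  have sq₀ : IsPullback pr f' f₀ ((yon S).map g₀) := by
    refine (IsPullback.of_right ?_ hf₀2.symm sqR).flip
    rw [Category.comp_id, hf₀1]
    exact sq.flip
  obtain ⟨i₀, hi₀⟩ := (yon S).map_surjective (e.hom ≫ f')
  have sqW : IsPullback (e.hom ≫ pr) ((yon S).map i₀) f₀ ((yon S).map g₀) := by
    rw [hi₀]
    exact IsPullback.of_iso sq₀ e.symm (Iso.refl _) (Iso.refl _) (Iso.refl _) (by simp) (by simp)
      (by simp) (by simp)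
  have sqW' : IsPullback (e.hom ≫ pr) ((yon S).map i₀) fU ((yon S).map g) := by
    rw [hi₀]
    exact IsPullback.of_iso sq e.symm (Iso.refl _) (Iso.refl _) (Iso.refl _) (by simp) (by simp)
      (by simp) (by simp)
  have hsep_i : IsSeparated i₀.left := (isSeparatedMor_yon_map_iff i₀).1
    (repWith_diagonal_of_isPullback @IsClosedImmersion sqW' hsep)
  have hqf_i := locP_yon_map (locP_of_isPullback _ hU (IsAlgSpace.yon_obj T)
    (IsAlgSpace.yon_obj T') (IsAlgSpace.yon_obj W') fU ((yon S).map g) (e.hom ≫ pr)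
    ((yon S).map i₀) sqW' hqf)
  obtain ⟨W, k, q, ε, hε, -, -, -⟩ := Groth.Agent.Helper2.AlgSpDesc.exists_rep_of_fppf_cover g₀ f₀
    (e.hom ≫ pr) i₀ sqW hg₀f hg₀s hg₀p Groth.Agent.Helper2.DescSat.SepLqf
    (fun D hD => Groth.Agent.Helper2.DescSat.sepLqf_effective g₀.left hg₀s hg₀f hg₀p D hD)
    ⟨hsep_i, hqf_i.1, hqf_i.2⟩
  exact ⟨W, ⟨asIso ε⟩⟩

end Groth.Agent.Helper2.Lqf
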