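import Mathlib
import Groth.Prelude.Def_AlgSp4
import Groth.Agent.Lib.Helper2.AlgSp.SepLift
import Groth.Agent.Lib.Helper2.AlgSp.OpenSub
import Groth.Agent.Lib.Helper2.AlgSp.Diag

/-!
# An étale chart which is finite over the base with a "purely inseparable" point is an open
immersion near that point (helper2)
-/

set_option autoImplicit false
universe u
open CategoryTheory CategoryTheory.Limits AlgebraicGeometry Opposite AlgSp
open Groth.Agent.Helper2.AlgSpBasic Groth.Agent.Helper2.EtaleLocal

namespace Groth.Agent.Helper2.Lqf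

variable {S : Scheme.{u}}

/-- A section of an étale morphism of schemes is an open immersion. -/
theorem isOpenImmersion_of_section {R V : Scheme.{u}} (s : R ⟶ V) (d : V ⟶ R) (hd : d ≫ s = 𝟙 V)
    [Etale s] : IsOpenImmersion d := by
  have h1 : MorphismProperty.HasOfPostcompProperty @IsOpenImmersion
      (@LocallyOfFiniteType ⊓ @FormallyUnramified) := by
    rw [MorphismProperty.hasOfPostcompProperty_iff_le_diagonal]
    intro X Y f ⟨hft, hfu⟩
    exact inferInstanceAs <| IsOpenImmersion (pullback.diagonal f)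
  refine MorphismProperty.of_postcomp (W := @IsOpenImmersion)
    (W' := @LocallyOfFiniteType ⊓ @FormallyUnramified) d s ⟨inferInstance, inferInstance⟩ ?_
  rw [hd]
  infer_instance

/-- Key lemma: near a point `v` which is alone in its fibre over `T'` and at which field valued
points are determined by their image in `T'`, a finite-over-`T'` étale chart of a space separated
over `T'` is an open immersion. -/
theorem exists_open_mono_nbhd {X' : Sp S} (hX' : IsAlgSpace X') {T' V : Over S}
    (f' : X' ⟶ (yon S).obj T') (hsep : IsSeparatedMor f')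
    (i : (yon S).obj V ⟶ X') (hi : RepWith @Etale i) (q : V ⟶ T') (hiq : i ≫ f' = (yon S).map q)
    (hfin : IsFinite q.left) (v : V.left)
    (huniq : ∀ v' : V.left, q.left v' = q.left v → v' = v)
    (hext : ∀ (K : Type u) [Field K] (x y : Spec (.of K) ⟶ V.left), (∀ z, x z = v) →
      (∀ z, y z = v) → x ≫ q.left = y ≫ q.left → x = y) :
    ∃ V₁ : V.left.Opens, v ∈ V₁ ∧ RepWith @IsOpenImmersion ((yon S).map (opensOverι V₁) ≫ i) := by
  -- the relation `R = V ×_{X'} V`
  obtain ⟨R, s, t, sqR⟩ := exists_isPullback_yon hX'.diag i i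
  have het : Etale t.left := hi.property i _ _ sqR
  have hes : Etale s.left := hi.property i _ _ sqR.flip
  have hst : s ≫ q = t ≫ q := (yon S).map_injective (by
    rw [Functor.map_comp, Functor.map_comp, ← hiq, ← Category.assoc, sqR.w, Category.assoc])
  -- joint monicity of `(s, t)`
  have hjm : ∀ {Q : Over S} (ρ₁ ρ₂ : Q ⟶ R), ρ₁ ≫ s = ρ₂ ≫ s → ρ₁ ≫ t = ρ₂ ≫ t → ρ₁ = ρ₂ := by
    intro Q ρ₁ ρ₂ h1 h2
    apply (yon S).map_injective
    apply sqR.hom_ext
    · rw [← Functor.map_comp, ← Functor.map_comp, h1]
    · rw [← Functor.map_comp, ← Functor.map_comp, h2]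
  -- the diagonal section
  obtain ⟨d, hd⟩ := (yon S).map_surjective (sqR.lift (𝟙 _) (𝟙 _) rfl)
  have hds : d ≫ s = 𝟙 V := (yon S).map_injective (by
    rw [Functor.map_comp, hd, sqR.lift_fst, CategoryTheory.Functor.map_id])
  have hdt : d ≫ t = 𝟙 V := (yon S).map_injective (by
    rw [Functor.map_comp, hd, sqR.lift_snd, CategoryTheory.Functor.map_id])
  have hdo : IsOpenImmersion d.left :=
    isOpenImmersion_of_section s.left d.left (congrArg (fun m : V ⟶ V => m.left) hds)
  -- `s` is finite
  have sqE : IsPullback ((yon S).map (pullback.fst q q)) ((yon S).map (pullback.snd q q))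
      ((yon S).map q) ((yon S).map q) := (IsPullback.of_hasPullback q q).map (yon S)
  let m : R ⟶ pullback q q := pullback.lift s t hst
  have hci : IsClosedImmersion m.left :=
    prop_of_relDiag @IsClosedImmersion f' hsep i i s t sqR q q hiq hiq _ _ sqE m
      (pullback.lift_fst _ _ _) (pullback.lift_snd _ _ _)
  have h1 : IsFinite (pullback.fst q q).left :=
    MorphismProperty.pullback_fst
      (P := MorphismProperty.inverseImage (@IsFinite : MorphismProperty Scheme.{u})
        (Over.forget S)) q q hfin
  have hsfin : IsFinite s.left := by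
    have : s.left = m.left ≫ (pullback.fst q q).left := by
      rw [← Over.comp_left, pullback.lift_fst]
    rw [this]
    infer_instance
  -- the open neighbourhood
  have hWclosed : IsClosed (Set.range d.left)ᶜ :=
    (d.left.isOpenEmbedding.isOpen_range).isClosed_compl
  have hZclosed : IsClosed (s.left '' (Set.range d.left)ᶜ) := s.left.isClosedMap _ hWclosed
  let V₁ : V.left.Opens := ⟨(s.left '' (Set.range d.left)ᶜ)ᶜ, hZclosed.isOpen_compl⟩
  have hvV₁ : v ∈ V₁ := by
    rintro ⟨r, hr, hrv⟩
    apply hr
    obtain ⟨ρ, hρdef⟩ : ∃ ρ : Spec (.of (R.left.residueField r)) ⟶ R.left,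
      ρ = R.left.fromSpecResidueField r := ⟨_, rfl⟩
    have hρpt : ∀ z, ρ z = r := by
      intro z
      have : ρ z ∈ Set.range ρ := ⟨z, rfl⟩
      rw [hρdef, Scheme.range_fromSpecResidueField] at this
      rw [hρdef]
      exact this
    have hqst : ∀ r' : R.left, q.left (s.left r') = q.left (t.left r') := by
      intro r'
      have := congrArg (fun m : R ⟶ T' => m.left r') hst
      simpa using this
    have htr : t.left r = v := huniq _ (by rw [← hqst, hrv])
    have hxy : ρ ≫ s.left = ρ ≫ t.left := by
      apply hext (R.left.residueField r)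
      · intro z
        rw [Scheme.Hom.comp_apply, hρpt, hrv]
      · intro z
        rw [Scheme.Hom.comp_apply, hρpt, htr]
      · have := congrArg (fun m : R ⟶ T' => m.left) hst
        simp only [Over.comp_left] at this
        rw [Category.assoc, Category.assoc, this]
    let Q : Over S := Over.mk (ρ ≫ R.hom)
    let ρo : Q ⟶ R := Over.homMk ρ rfl
    have hρo : ρo ≫ s = ρo ≫ t := Over.OverMorphism.ext hxy
    have hfac : ρo = (ρo ≫ s) ≫ d := by
      apply hjm
      · rw [Category.assoc, hds, Category.comp_id]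
      · rw [Category.assoc, hdt, Category.comp_id, hρo]
    have hfac' : ρ = (ρo ≫ s).left ≫ d.left := congrArg (fun m : Q ⟶ R => m.left) hfac
    obtain ⟨z₀⟩ : Nonempty (Spec (.of (R.left.residueField r))) := inferInstance
    refine ⟨(ρo ≫ s).left z₀, ?_⟩
    rw [← Scheme.Hom.comp_apply, ← hfac', hρpt]
  refine ⟨V₁, hvV₁, ?_⟩
  have hje : RepWith @Etale ((yon S).map (opensOverι V₁) ≫ i) :=
    repWith_comp @Etale ((repWith_yon_map_iff @Etale _).2
      (inferInstanceAs (Etale V₁.ι))) hi
  have : Mono ((yon S).map (opensOverι V₁) ≫ i) := by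
    constructor
    intro A α β hαβ
    apply hom_ext_yon
    intro Q c
    obtain ⟨α₀, hα₀⟩ := (yon S).map_surjective (c ≫ α)
    obtain ⟨β₀, hβ₀⟩ := (yon S).map_surjective (c ≫ β)
    rw [← hα₀, ← hβ₀]
    congr 1
    have hc : (yon S).map (α₀ ≫ opensOverι V₁) ≫ i = (yon S).map (β₀ ≫ opensOverι V₁) ≫ i := by
      rw [Functor.map_comp, Functor.map_comp, hα₀, hβ₀, Category.assoc, Category.assoc,
        Category.assoc, Category.assoc, hαβ]
    obtain ⟨ρ, hρ⟩ := (yon S).map_surjective (sqR.lift _ _ hc)
    have hρs : ρ ≫ s = α₀ ≫ opensOverι V₁ := (yon S).map_injective (by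
      rw [Functor.map_comp, hρ, sqR.lift_fst])
    have hρt : ρ ≫ t = β₀ ≫ opensOverι V₁ := (yon S).map_injective (by
      rw [Functor.map_comp, hρ, sqR.lift_snd])
    have hrange : Set.range ρ.left ⊆ Set.range d.left := by
      rintro _ ⟨z, rfl⟩
      by_contra hz
      have h1 : s.left (ρ.left z) ∈ s.left '' (Set.range d.left)ᶜ := ⟨_, hz, rfl⟩
      have h2 : s.left (ρ.left z) ∈ V₁ := by
        have := congrArg (fun m : Q ⟶ V => m.left z) hρs
        simp only [Over.comp_left, Scheme.Hom.comp_apply] at this
        rw [this]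
        exact (α₀.left z).2
      exact h2 h1
    let c' := IsOpenImmersion.lift d.left ρ.left hrange
    have hc' : c' ≫ d.left = ρ.left := IsOpenImmersion.lift_fac _ _ _
    have hds' : d.left ≫ s.left = 𝟙 _ := congrArg (fun m : V ⟶ V => m.left) hds
    have hdt' : d.left ≫ t.left = 𝟙 _ := congrArg (fun m : V ⟶ V => m.left) hdt
    have e1 : (α₀ ≫ opensOverι V₁).left = c' := by
      rw [← hρs, Over.comp_left, ← hc', Category.assoc, hds', Category.comp_id]
    have e2 : (β₀ ≫ opensOverι V₁).left = c' := by
      rw [← hρt, Over.comp_left, ← hc', Category.assoc, hdt', Category.comp_id]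
    apply Over.OverMorphism.ext
    rw [← cancel_mono V₁.ι]
    exact e1.trans e2.symm
  exact repWith_isOpenImmersion_of_mono_locP_etale (IsAlgSpace.yon_obj _) hX' _
    (locP_of_repWith @Etale (IsAlgSpace.yon_obj _).diag _ hje)

end Groth.Agent.Helper2.Lqf
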