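import Mathlib

/-!
# Étale algebras have boundedly many field valued points over a given one (helper2)
-/

set_option autoImplicit false
universe u
open Polynomial

namespace Groth.Agent.Helper2.Lqf

/-- `φ : R → S` has at most `N` lifts of every field valued point of `R`. -/
def RingBddLifts {R S : Type u} [CommRing R] [CommRing S] (φ : R →+* S) (N : ℕ) : Prop :=
  ∀ (K : Type u) [Field K] (t : R →+* K), {t' : S →+* K | t'.comp φ = t}.encard ≤ N

theorem ringBddLifts_of_isStandardEtale {R S : Type u} [CommRing R] [CommRing S] [Algebra R S]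
    [Algebra.IsStandardEtale R S] : ∃ N, RingBddLifts (algebraMap R S) N := by
  obtain ⟨𝓟⟩ := Algebra.IsStandardEtale.nonempty_standardEtalePresentation (R := R) (S := S)
  refine ⟨𝓟.f.natDegree, fun K _ t => ?_⟩
  classical
  set L : Set (S →+* K) := {t' : S →+* K | t'.comp (algebraMap R S) = t} with hL
  let ev : (S →+* K) → K := fun t' => t' 𝓟.x
  have hne : 𝓟.f.map t ≠ 0 := (𝓟.monic_f.map t).ne_zero
  have hinj : Set.InjOn ev L := by
    intro t₁ h₁ t₂ h₂ h12
    let _ := t.toAlgebra
    let a₁ : S →ₐ[R] K := { t₁ with commutes' := fun r => congrArg (fun f : R →+* K => f r) h₁ }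
    let a₂ : S →ₐ[R] K := { t₂ with commutes' := fun r => congrArg (fun f : R →+* K => f r) h₂ }
    have : a₁ = a₂ := 𝓟.hom_ext h12
    exact congrArg (fun a : S →ₐ[R] K => (a : S →+* K)) this
  have himg : ev '' L ⊆ ((𝓟.f.map t).roots.toFinset : Set K) := by
    rintro _ ⟨t', ht', rfl⟩
    simp only [Finset.mem_coe, Multiset.mem_toFinset, Polynomial.mem_roots hne,
      Polynomial.IsRoot.def, Polynomial.eval_map]
    have h1 : Polynomial.aeval 𝓟.x 𝓟.f = 0 := 𝓟.hasMap.1
    have h2 := congrArg t' h1
    rw [map_zero, Polynomial.aeval_def, Polynomial.hom_eval₂, ht'] at h2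
    exact h2
  calc L.encard = (ev '' L).encard := (hinj.encard_image).symm
    _ ≤ ((𝓟.f.map t).roots.toFinset : Set K).encard := Set.encard_le_encard himg
    _ = ((𝓟.f.map t).roots.toFinset.card : ℕ∞) := Set.encard_coe_eq_coe_finsetCard _
    _ ≤ (𝓟.f.natDegree : ℕ∞) := by
      refine Nat.cast_le.mpr ?_
      exact (Multiset.toFinset_card_le _).trans
        ((Polynomial.card_roots' _).trans (Polynomial.natDegree_map_le))

theorem encard_lifts_away_le {R S : Type u} [CommRing R] [CommRing S] (φ : R →+* S) (f : S)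
    {N : ℕ} (hN : RingBddLifts ((algebraMap S (Localization.Away f)).comp φ) N)
    (K : Type u) [Field K] (t : R →+* K) :
    {t' : S →+* K | t'.comp φ = t ∧ t' f ≠ 0}.encard ≤ N := by
  let ρ : (Localization.Away f →+* K) → (S →+* K) :=
    fun t'' => t''.comp (algebraMap S (Localization.Away f))
  have hsub : {t' : S →+* K | t'.comp φ = t ∧ t' f ≠ 0} ⊆
      ρ '' {t'' : Localization.Away f →+* K |
        t''.comp ((algebraMap S (Localization.Away f)).comp φ) = t} := by
    rintro t' ⟨h1, h2⟩
    have hu : IsUnit (t' f) := IsUnit.mk0 _ h2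
    refine ⟨IsLocalization.Away.lift f hu, ?_, ?_⟩
    · change (IsLocalization.Away.lift f hu).comp ((algebraMap S (Localization.Away f)).comp φ) = t
      rw [← RingHom.comp_assoc, IsLocalization.Away.lift_comp, h1]
    · exact IsLocalization.Away.lift_comp f hu
  exact (Set.encard_le_encard hsub).trans ((Set.encard_image_le _ _).trans (hN K t))

/-- An étale algebra has boundedly many lifts of field valued points. -/
theorem exists_ringBddLifts_of_etale {R S : Type u} [CommRing R] [CommRing S] [Algebra R S]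
    [Algebra.Etale R S] : ∃ N, RingBddLifts (algebraMap R S) N := by
  have H : ∀ Q : PrimeSpectrum S, ∃ f : S, f ∉ Q.asIdeal ∧
      Algebra.IsStandardEtale R (Localization.Away f) := fun Q => by
    haveI : Algebra.IsEtaleAt R Q.asIdeal := by
      have : Algebra.FormallyEtale S (Localization.AtPrime Q.asIdeal) :=
        Algebra.FormallyEtale.of_isLocalization Q.asIdeal.primeCompl
      exact Algebra.FormallyEtale.comp R S _
    exact Algebra.IsEtaleAt.exists_isStandardEtale Q.asIdeal
  choose f hf hstd using H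
  have hspan : Ideal.span (Set.range f) = ⊤ := by
    by_contra h
    obtain ⟨M, hM, hle⟩ := Ideal.exists_le_maximal _ h
    exact hf ⟨M, hM.isPrime⟩ (hle (Ideal.subset_span ⟨_, rfl⟩))
  rw [Ideal.span_eq_top_iff_finite] at hspan
  obtain ⟨s, hs, hs1⟩ := hspan
  have hb : ∀ x ∈ s, ∃ N, RingBddLifts ((algebraMap S (Localization.Away x)).comp
      (algebraMap R S)) N := by
    intro x hx
    obtain ⟨Q, rfl⟩ := hs hx
    haveI := hstd Q
    obtain ⟨N, hN⟩ := ringBddLifts_of_isStandardEtale (R := R) (S := Localization.Away (f Q))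
    refine ⟨N, ?_⟩
    rw [← IsScalarTower.algebraMap_eq]
    exact hN
  choose! N hN using hb
  refine ⟨∑ x ∈ s, N x, fun K _ t => ?_⟩
  have hcov : {t' : S →+* K | t'.comp (algebraMap R S) = t} ⊆
      ⋃ x ∈ s, {t' : S →+* K | t'.comp (algebraMap R S) = t ∧ t' x ≠ 0} := by
    intro t' ht'
    by_contra hcon
    simp only [Set.mem_iUnion, Set.mem_setOf_eq, not_exists, not_and, not_not] at hcon
    have h1 : Ideal.span (s : Set S) ≤ RingHom.ker t' := by
      rw [Ideal.span_le]
      intro x hx
      exact hcon x hx ht'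
    rw [hs1] at h1
    have : (1 : S) ∈ RingHom.ker t' := h1 Submodule.mem_top
    rw [RingHom.mem_ker, map_one] at this
    exact one_ne_zero this
  calc {t' : S →+* K | t'.comp (algebraMap R S) = t}.encard
      ≤ (⋃ x ∈ s, {t' : S →+* K | t'.comp (algebraMap R S) = t ∧ t' x ≠ 0}).encard :=
        Set.encard_le_encard hcov
    _ ≤ ∑ x ∈ s, {t' : S →+* K | t'.comp (algebraMap R S) = t ∧ t' x ≠ 0}.encard :=
        Finset.set_encard_biUnion_le _ _
    _ ≤ ∑ x ∈ s, (N x : ℕ∞) :=
        Finset.sum_le_sum fun x hx => encard_lifts_away_le _ x (hN x hx) K t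
    _ = ((∑ x ∈ s, N x : ℕ) : ℕ∞) := by push_cast; rfl

end Groth.Agent.Helper2.Lqf
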