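import Mathlib
import Groth.Agent.Lib.Helper2.Lqf.BddLifts

/-!
# Morphisms of schemes with boundedly many lifts of field valued points (helper2)
-/

set_option autoImplicit false
universe u
open CategoryTheory CategoryTheory.Limits AlgebraicGeometry

namespace Groth.Agent.Helper2.Lqf

/-- Every field valued point of `T` has at most `N` lifts along `g`. -/
def BddLifts {T' T : Scheme.{u}} (g : T' ⟶ T) (N : ℕ) : Prop :=
  ∀ (K : Type u) [Field K] (t : Spec (.of K) ⟶ T),
    {t' : Spec (.of K) ⟶ T' | t' ≫ g = t}.encard ≤ N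

theorem bddLifts_specMap {A A' : CommRingCat.{u}} (ψ : A ⟶ A') {N : ℕ}
    (h : RingBddLifts ψ.hom N) : BddLifts (Spec.map ψ) N := by
  intro K _ t
  obtain ⟨τ, rfl⟩ := Spec.map_surjective t
  let F : (A' →+* K) → (Spec (.of K) ⟶ Spec A') := fun τ' => Spec.map (CommRingCat.ofHom τ')
  have hsub : {t' : Spec (.of K) ⟶ Spec A' | t' ≫ Spec.map ψ = Spec.map τ} ⊆
      F '' {τ' : A' →+* K | τ'.comp ψ.hom = τ.hom} := by
    intro t' ht'
    obtain ⟨τ', rfl⟩ := Spec.map_surjective t'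
    refine ⟨τ'.hom, ?_, rfl⟩
    have h1 : ψ ≫ τ' = τ := Spec.map_injective (by rw [Spec.map_comp]; exact ht')
    change τ'.hom.comp ψ.hom = τ.hom
    rw [← h1]
    rfl
  exact (Set.encard_le_encard hsub).trans ((Set.encard_image_le _ _).trans (h K τ.hom))

theorem bddLifts_comp_mono {T'' T' T : Scheme.{u}} (g : T'' ⟶ T') (j : T' ⟶ T) [Mono j] {N : ℕ}
    (h : BddLifts g N) : BddLifts (g ≫ j) N := by
  intro K _ t
  by_cases hne : ({t' : Spec (.of K) ⟶ T'' | t' ≫ g ≫ j = t}).Nonempty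
  · obtain ⟨t₀, ht₀⟩ := hne
    have hsub : {t' : Spec (.of K) ⟶ T'' | t' ≫ g ≫ j = t} ⊆
        {t' : Spec (.of K) ⟶ T'' | t' ≫ g = t₀ ≫ g} := by
      intro t' ht'
      change t' ≫ g = t₀ ≫ g
      rw [← cancel_mono j, Category.assoc, Category.assoc]
      exact (show t' ≫ g ≫ j = t from ht').trans (show t₀ ≫ g ≫ j = t from ht₀).symm
    exact (Set.encard_le_encard hsub).trans (h K _)
  · rw [Set.not_nonempty_iff_eq_empty] at hne
    rw [hne]
    simp

end Groth.Agent.Helper2.Lqf
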