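import Mathlib
import Groth.Agent.Lib.Helper2.Lqf.SchBdd
import Groth.Agent.Lib.Helper2.Lqf.MonoNbhd

/-!
# The complement of the diagonal of a separated étale morphism (helper2)
-/

set_option autoImplicit false
universe u
open CategoryTheory CategoryTheory.Limits AlgebraicGeometry

namespace Groth.Agent.Helper2.Lqf

variable {T' T : Scheme.{u}} (g : T' ⟶ T)

theorem isEmpty_of_bddLifts_zero (h : BddLifts g 0) : IsEmpty T' := by
  refine ⟨fun t => ?_⟩
  have h1 := h (T'.residueField t) (T'.fromSpecResidueField t ≫ g)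
  have h2 : T'.fromSpecResidueField t ∈
      {t' : Spec (.of (T'.residueField t)) ⟶ T' | t' ≫ g = T'.fromSpecResidueField t ≫ g} := rfl
  have h3 : ({t' : Spec (.of (T'.residueField t)) ⟶ T' |
      t' ≫ g = T'.fromSpecResidueField t ≫ g}).encard = 0 := le_antisymm (by simpa using h1) bot_le
  rw [Set.encard_eq_zero] at h3
  rw [h3] at h2
  exact h2

theorem isOpenImmersion_diagonal_of_etale [Etale g] : IsOpenImmersion (pullback.diagonal g) :=
  isOpenImmersion_of_section (pullback.fst g g) (pullback.diagonal g) (pullback.diagonal_fst g)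

/-- The complement of the diagonal. -/
noncomputable def diagCompl [IsSeparated g] : (pullback g g).Opens :=
  ⟨(Set.range (pullback.diagonal g))ᶜ,
    (pullback.diagonal g).isClosedEmbedding.isClosed_range.isOpen_compl⟩

theorem range_diagCompl_ι [IsSeparated g] :
    Set.range (diagCompl g).ι = (Set.range (pullback.diagonal g))ᶜ := by
  rw [Scheme.Opens.range_ι]
  rfl

theorem eq_of_fromField {K : Type u} [Field K] {Y : Scheme.{u}} (t : Spec (.of K) ⟶ Y)
    (x x' : Spec (.of K)) : t x = t x' := by
  rw [Subsingleton.elim (α := ↥(Spec (CommRingCat.of K))) x x']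

theorem dichotomy [Etale g] [IsSeparated g] {K : Type u} [Field K] (t₁ t₂ : Spec (.of K) ⟶ T')
    (h : t₁ ≫ g = t₂ ≫ g) :
    t₁ = t₂ ∨ ∃ ts : Spec (.of K) ⟶ (diagCompl g : Scheme.{u}),
      ts ≫ (diagCompl g).ι ≫ pullback.fst g g = t₂ ∧
      ts ≫ (diagCompl g).ι ≫ pullback.snd g g = t₁ := by
  have := isOpenImmersion_diagonal_of_etale g
  obtain ⟨t'', h1, h2⟩ : ∃ t'' : Spec (.of K) ⟶ pullback g g,
      t'' ≫ pullback.fst g g = t₂ ∧ t'' ≫ pullback.snd g g = t₁ :=
    ⟨pullback.lift t₂ t₁ h.symm, pullback.lift_fst _ _ _, pullback.lift_snd _ _ _⟩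
  by_cases hmem : t'' (IsLocalRing.closedPoint K) ∈ Set.range (pullback.diagonal g)
  · left
    have hr : Set.range t'' ⊆ Set.range (pullback.diagonal g) := by
      rintro _ ⟨x, rfl⟩
      rw [eq_of_fromField t'' x (IsLocalRing.closedPoint K)]
      exact hmem
    have hl := IsOpenImmersion.lift_fac (pullback.diagonal g) t'' hr
    rw [← h1, ← h2, ← hl, Category.assoc, Category.assoc, pullback.diagonal_fst,
      pullback.diagonal_snd]
  · right
    have hr : Set.range t'' ⊆ Set.range (diagCompl g).ι := by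
      rw [range_diagCompl_ι]
      rintro _ ⟨x, rfl⟩
      rw [eq_of_fromField t'' x (IsLocalRing.closedPoint K)]
      exact hmem
    have hl := IsOpenImmersion.lift_fac (diagCompl g).ι t'' hr
    refine ⟨IsOpenImmersion.lift (diagCompl g).ι t'' hr, ?_, ?_⟩
    · rw [← Category.assoc, hl, h1]
    · rw [← Category.assoc, hl, h2]

theorem bddLifts_diagCompl [IsSeparated g] {n : ℕ} (h : BddLifts g (n + 1)) :
    BddLifts ((diagCompl g).ι ≫ pullback.snd g g) n := by
  intro K _ t'
  let L := {ts : Spec (.of K) ⟶ (diagCompl g : Scheme.{u}) |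
    ts ≫ (diagCompl g).ι ≫ pullback.snd g g = t'}
  let M := {t'' : Spec (.of K) ⟶ T' | t'' ≫ g = t' ≫ g}
  let F : (Spec (.of K) ⟶ (diagCompl g : Scheme.{u})) → (Spec (.of K) ⟶ T') :=
    fun ts => ts ≫ (diagCompl g).ι ≫ pullback.fst g g
  have hinj : Set.InjOn F L := by
    intro ts hts ts' hts' hF
    rw [← cancel_mono (diagCompl g).ι]
    apply pullback.hom_ext
    · simpa [F] using hF
    · have e1 : ts ≫ (diagCompl g).ι ≫ pullback.snd g g = t' := hts
      have e2 : ts' ≫ (diagCompl g).ι ≫ pullback.snd g g = t' := hts'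
      rw [Category.assoc, Category.assoc, e1, e2]
  have hsub : F '' L ⊆ M \ {t'} := by
    rintro _ ⟨ts, hts, rfl⟩
    have e1 : ts ≫ (diagCompl g).ι ≫ pullback.snd g g = t' := hts
    refine ⟨?_, ?_⟩
    · change (ts ≫ (diagCompl g).ι ≫ pullback.fst g g) ≫ g = t' ≫ g
      rw [← e1]
      simp only [Category.assoc, pullback.condition]
    · intro hmem
      have e2 : ts ≫ (diagCompl g).ι ≫ pullback.fst g g = t' := hmem
      have e3 : ts ≫ (diagCompl g).ι = t' ≫ pullback.diagonal g := by
        apply pullback.hom_ext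
        · rw [Category.assoc, Category.assoc, e2, pullback.diagonal_fst, Category.comp_id]
        · rw [Category.assoc, Category.assoc, e1, pullback.diagonal_snd, Category.comp_id]
      have e4 : (diagCompl g).ι (ts (IsLocalRing.closedPoint K)) ∈
          Set.range (pullback.diagonal g) := by
        refine ⟨t' (IsLocalRing.closedPoint K), ?_⟩
        have := congrArg (fun m => m (IsLocalRing.closedPoint K)) e3
        simpa using this.symm
      have e5 : (diagCompl g).ι (ts (IsLocalRing.closedPoint K)) ∈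
          (Set.range (pullback.diagonal g))ᶜ := by
        rw [← range_diagCompl_ι]
        exact ⟨_, rfl⟩
      exact e5 e4
  have hM : t' ∈ M := rfl
  have h1 : (F '' L).encard + 1 ≤ M.encard := by
    calc (F '' L).encard + 1 ≤ (M \ {t'}).encard + 1 := by
          gcongr
      _ = M.encard := Set.encard_sdiff_singleton_add_one hM
  have h2 : L.encard = (F '' L).encard := (hinj.encard_image).symm
  have h3 : L.encard + 1 ≤ (n : ℕ∞) + 1 := by
    rw [h2]
    exact h1.trans (by simpa using h K (t' ≫ g))
  exact (ENat.add_le_add_iff_right (by simp)).1 h3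

end Groth.Agent.Helper2.Lqf
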