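import Mathlib
import Groth.Prelude.Def_AlgSp4
import Groth.Agent.Lib.Helper2.Lqf.DiagCompl
import Groth.Agent.Lib.Helper2.Lqf.FieldPts
import Groth.Agent.Lib.Helper2.Lqf.DescRep
import Groth.Agent.Lib.Helper2.AlgSp.ZarRep2
import Groth.Agent.Lib.Helper2.AlgSp.Mor2

/-!
# The image of an open subscheme of an étale base change with boundedly many lifts is a scheme
(helper2)
-/

set_option autoImplicit false
universe u
open CategoryTheory CategoryTheory.Limits AlgebraicGeometry Opposite AlgSp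
open Groth.Agent.Helper2.AlgSpBasic Groth.Agent.Helper2.EtaleLocal

namespace Groth.Agent.Helper2.Lqf

variable {S : Scheme.{u}}

theorem repWith_diagonal_comp (P : MorphismProperty Scheme.{u}) [P.IsStableUnderBaseChange]
    [P.IsMultiplicative] {X Y Z : Sp S} (m : X ⟶ Y) (f : Y ⟶ Z)
    (hm : RepWith P (pullback.diagonal m)) (hf : RepWith P (pullback.diagonal f)) :
    RepWith P (pullback.diagonal (m ≫ f)) :=
  (RepWith (S := S) P).diagonal.comp_mem m f hm hf

/-- The complement of the diagonal of `T' ×_T T'`, over `S`. -/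
theorem exists_diagCompl_over {T T' : Over S} (g : T' ⟶ T) (hge : Etale g.left)
    (hgs : IsSeparated g.left) {n : ℕ} (hgb : BddLifts g.left (n + 1)) :
    ∃ (Ts : Over S) (q₀ gs : Ts ⟶ T'), q₀ ≫ g = gs ≫ g ∧ Etale gs.left ∧ IsSeparated gs.left ∧
      BddLifts gs.left n ∧
      ∀ (Ω : Type u) [Field Ω] (w : Spec (CommRingCat.of Ω) ⟶ S) (t₁ t₂ : Over.mk w ⟶ T'),
        t₁ ≫ g = t₂ ≫ g → t₁ = t₂ ∨ ∃ ts : Over.mk w ⟶ Ts, ts ≫ q₀ = t₂ ∧ ts ≫ gs = t₁ := by
  have hw : (diagCompl g.left).ι ≫ pullback.snd g.left g.left ≫ T'.hom =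
      (diagCompl g.left).ι ≫ pullback.fst g.left g.left ≫ T'.hom := by
    rw [← Over.w g, pullback.condition_assoc]
  refine ⟨Over.mk ((diagCompl g.left).ι ≫ pullback.fst g.left g.left ≫ T'.hom),
    Over.homMk ((diagCompl g.left).ι ≫ pullback.fst g.left g.left) (Category.assoc _ _ _),
    Over.homMk ((diagCompl g.left).ι ≫ pullback.snd g.left g.left)
      ((Category.assoc _ _ _).trans hw), ?_, ?_, ?_, ?_, ?_⟩
  · apply Over.OverMorphism.ext
    change ((diagCompl g.left).ι ≫ pullback.fst g.left g.left) ≫ g.left =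
      ((diagCompl g.left).ι ≫ pullback.snd g.left g.left) ≫ g.left
    rw [Category.assoc, Category.assoc, pullback.condition]
  · change Etale ((diagCompl g.left).ι ≫ pullback.snd g.left g.left)
    infer_instance
  · change IsSeparated ((diagCompl g.left).ι ≫ pullback.snd g.left g.left)
    infer_instance
  · exact bddLifts_diagCompl g.left hgb
  · intro Ω _ w t₁ t₂ ht
    have ht' : t₁.left ≫ g.left = t₂.left ≫ g.left := congrArg CommaMorphism.left ht
    rcases dichotomy g.left t₁.left t₂.left ht' with h | ⟨ts, h1, h2⟩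
    · exact Or.inl (Over.OverMorphism.ext h)
    · refine Or.inr ⟨Over.homMk ts ?_, Over.OverMorphism.ext h1, Over.OverMorphism.ext h2⟩
      change ts ≫ (diagCompl g.left).ι ≫ pullback.fst g.left g.left ≫ T'.hom = w
      rw [← Category.assoc (diagCompl g.left).ι, ← Category.assoc ts, h1]
      exact Over.w t₂

/-- The key statement on points: a point of `X'` whose image in `X` lies in the image of `V'`
either lies in `V'` or in the image of `Vs`. -/
theorem mem_range_or_mem_range {T T' Ts : Over S} {X X' Xs : Sp S} (f : X ⟶ (yon S).obj T)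
    (g : T' ⟶ T) (pr : X' ⟶ X) (f' : X' ⟶ (yon S).obj T')
    (sq : IsPullback pr f' f ((yon S).map g)) (q₀ gs : Ts ⟶ T')
    (hdich : ∀ (Ω : Type u) [Field Ω] (w : Spec (CommRingCat.of Ω) ⟶ S)
      (t₁ t₂ : Over.mk w ⟶ T'),
        t₁ ≫ g = t₂ ≫ g → t₁ = t₂ ∨ ∃ ts : Over.mk w ⟶ Ts, ts ≫ q₀ = t₂ ∧ ts ≫ gs = t₁)
    (prs : Xs ⟶ X') (fs : Xs ⟶ (yon S).obj Ts) (sqs : IsPullback prs fs f' ((yon S).map gs))
    (π₀ : Xs ⟶ X') (hπ₀1 : π₀ ≫ pr = prs ≫ pr) (hπ₀2 : π₀ ≫ f' = fs ≫ (yon S).map q₀)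
    {V' Vs : Sp S} (j : V' ⟶ X') (js : Vs ⟶ Xs) (v₁ : Vs ⟶ V') (sqjs : IsPullback js v₁ π₀ j)
    (y : Points X') (hy : Points.map pr y ∈ Set.range (Points.map (j ≫ pr))) :
    y ∈ Set.range (Points.map j) ∨ y ∈ Set.range (Points.map (js ≫ prs)) := by
  obtain ⟨z, hz⟩ := hy
  obtain ⟨Ω, _, w, α, β, hαβ, hα, hβ⟩ := exists_field_of_map_eq pr (j ≫ pr) y z hz.symm
  obtain ⟨t₁, ht₁⟩ := (yon S).map_surjective (α ≫ f')
  obtain ⟨t₂, ht₂⟩ := (yon S).map_surjective (β ≫ j ≫ f')
  have ht : t₁ ≫ g = t₂ ≫ g := (yon S).map_injective (by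
    rw [Functor.map_comp, Functor.map_comp, ht₁, ht₂, Category.assoc, Category.assoc,
      Category.assoc, ← sq.w, ← Category.assoc, hαβ, Category.assoc, Category.assoc])
  rcases hdich Ω w t₁ t₂ ht with h | ⟨ts, hts1, hts2⟩
  · left
    have e : α = β ≫ j := sq.hom_ext (by rw [hαβ, Category.assoc])
      (by rw [← ht₁, h, ht₂, Category.assoc])
    refine ⟨Points.ofPt β (IsLocalRing.closedPoint Ω), ?_⟩
    rw [Points.map_ofPt, ← e]
    exact hα _
  · right
    obtain ⟨xs, hxs1, hxs2⟩ : ∃ xs : (yon S).obj (Over.mk w) ⟶ Xs,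
        xs ≫ prs = α ∧ xs ≫ fs = (yon S).map ts :=
      ⟨sqs.lift α ((yon S).map ts) (by rw [← ht₁, ← hts2, Functor.map_comp]),
        sqs.lift_fst _ _ _, sqs.lift_snd _ _ _⟩
    have hxπ : xs ≫ π₀ = β ≫ j := by
      apply sq.hom_ext
      · rw [Category.assoc, hπ₀1, ← Category.assoc, hxs1, hαβ, Category.assoc]
      · rw [Category.assoc, hπ₀2, ← Category.assoc, hxs2, ← Functor.map_comp, hts1, ht₂,
          Category.assoc]
    obtain ⟨vs, hvs⟩ : ∃ vs : (yon S).obj (Over.mk w) ⟶ Vs, vs ≫ js = xs :=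
      ⟨sqjs.lift xs β hxπ, sqjs.lift_fst _ _ _⟩
    refine ⟨Points.ofPt vs (IsLocalRing.closedPoint Ω), ?_⟩
    rw [Points.map_ofPt, ← Category.assoc, hvs, hxs1]
    exact hα _

/-- The statement proved by induction on the bound `n` on the number of lifts. -/
def ImageRep (S : Scheme.{u}) (n : ℕ) : Prop :=
  ∀ {T : Over S} {X : Sp S} (_ : IsAlgSpace X) (f : X ⟶ (yon S).obj T) (_ : IsSeparatedMor f)
    (_ : LocP (@LocallyQuasiFinite ⊓ @LocallyOfFiniteType) f) {T' : Over S} (g : T' ⟶ T)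
    (_ : Etale g.left) (_ : IsSeparated g.left) (_ : BddLifts g.left n) {X' : Sp S}
    (pr : X' ⟶ X) (f' : X' ⟶ (yon S).obj T') (_ : IsPullback pr f' f ((yon S).map g))
    {V' : Over S} (j : (yon S).obj V' ⟶ X') (_ : RepWith @IsOpenImmersion j),
    ∃ W : Over S, Nonempty ((yon S).obj W ≅ openSub X (Set.range (Points.map (j ≫ pr))))

theorem imageRep_zero : ImageRep S 0 := by
  intro T X hX f hsep hqf T' g hge hgs hgb X' pr f' sq V' j hj
  have hT' : IsEmpty T'.left := isEmpty_of_bddLifts_zero g.left hgb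
  obtain ⟨q, hq⟩ := (yon S).map_surjective (j ≫ f')
  apply Groth.Agent.Helper2.ZarRep.exists_iso_yon_of_isEmpty_points
  refine ⟨fun p => ?_⟩
  obtain ⟨z, -⟩ := points_map_openSubι_mem X _ p
  exact hT'.false (q.left ((Points.schemeHomeo V').symm z))

theorem isOpen_range_points_map {X : Sp S} {V : Over S} (a : (yon S).obj V ⟶ X)
    (ha : RepWith @Etale a) : IsOpen (Set.range (Points.map a)) := by
  rw [range_points_map_yon]
  exact (isOpenMap_ofPt a ha).isOpen_range

theorem isOpenImmersion_le_lqf_lft : (@IsOpenImmersion : MorphismProperty Scheme.{u}) ≤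
    (@LocallyQuasiFinite ⊓ @LocallyOfFiniteType : MorphismProperty Scheme.{u}) := by
  intro _ _ _ h
  have : IsOpenImmersion _ := h
  exact ⟨inferInstance, inferInstance⟩

theorem imageRep_succ (n : ℕ) (IH : ImageRep S n) : ImageRep S (n + 1) := by
  intro T X hX f hsep hqf T' g hge hgs hgb X' pr f' sq V' j hj
  have hX' : IsAlgSpace X' := isAlgSpace_of_isPullback (IsAlgSpace.yon_obj T).diag hX
    (IsAlgSpace.yon_obj T') f _ pr f' sq
  have hsep' : IsSeparatedMor f' := repWith_diagonal_of_isPullback @IsClosedImmersion sq hsep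
  have hqf' : LocP (@LocallyQuasiFinite ⊓ @LocallyOfFiniteType) f' :=
    locP_of_isPullback _ hX (IsAlgSpace.yon_obj T) (IsAlgSpace.yon_obj T') hX' f
      ((yon S).map g) pr f' sq hqf
  have hpre : RepWith @Etale pr :=
    repWith_of_isPullback @Etale sq.flip ((repWith_yon_map_iff @Etale g).2 hge)
  -- the complement of the diagonal
  obtain ⟨Ts, q₀, gs, hq₀g, hgse, hgss, hgsb, hdich⟩ := exists_diagCompl_over g hge hgs hgb
  -- the base change of `X'` along `gs`
  obtain ⟨Xs, prs, fs, sqs⟩ : ∃ (Xs : Sp S) (prs : Xs ⟶ X') (fs : Xs ⟶ (yon S).obj Ts),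
      IsPullback prs fs f' ((yon S).map gs) :=
    ⟨_, _, _, IsPullback.of_hasPullback f' ((yon S).map gs)⟩
  have hprse : RepWith @Etale prs :=
    repWith_of_isPullback @Etale sqs.flip ((repWith_yon_map_iff @Etale gs).2 hgse)
  have hbig : IsPullback (prs ≫ pr) fs f ((yon S).map gs ≫ (yon S).map g) := sqs.paste_horiz sq
  obtain ⟨π₀, hπ₀1, hπ₀2⟩ : ∃ π₀ : Xs ⟶ X', π₀ ≫ pr = prs ≫ pr ∧ π₀ ≫ f' = fs ≫ (yon S).map q₀ :=
    ⟨sq.lift (prs ≫ pr) (fs ≫ (yon S).map q₀) (by
      rw [Category.assoc fs, ← Functor.map_comp, hq₀g, Functor.map_comp]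
      exact hbig.w), sq.lift_fst _ _ _, sq.lift_snd _ _ _⟩
  have sqπ₀ : IsPullback π₀ fs f' ((yon S).map q₀) := by
    refine IsPullback.of_right ?_ hπ₀2 sq
    rw [hπ₀1, ← Functor.map_comp, hq₀g, Functor.map_comp]
    exact hbig
  -- the open subscheme `Vs`
  obtain ⟨q, hq⟩ := (yon S).map_surjective (j ≫ f')
  obtain ⟨Vs, v₁, v₂, sqV⟩ := exists_isPullback_yon (IsAlgSpace.yon_obj T').diag
    ((yon S).map q) ((yon S).map q₀)
  obtain ⟨js, hjs1, hjs2⟩ : ∃ js : (yon S).obj Vs ⟶ Xs,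
      js ≫ π₀ = (yon S).map v₁ ≫ j ∧ js ≫ fs = (yon S).map v₂ :=
    ⟨sqπ₀.lift ((yon S).map v₁ ≫ j) ((yon S).map v₂) (by rw [Category.assoc, ← hq, sqV.w]),
      sqπ₀.lift_fst _ _ _, sqπ₀.lift_snd _ _ _⟩
  have sqjs : IsPullback js ((yon S).map v₁) π₀ j := by
    refine IsPullback.of_right ?_ hjs1 sqπ₀.flip
    rw [hjs2, ← hq]
    exact sqV.flip
  have hjs : RepWith @IsOpenImmersion js := repWith_of_isPullback @IsOpenImmersion sqjs.flip hj
  -- induction hypothesis
  obtain ⟨W₁, ⟨e₁⟩⟩ := IH hX' f' hsep' hqf' gs hgse hgss hgsb prs fs sqs js hjs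
  -- the open sets
  have hIo : IsOpen (Set.range (Points.map (j ≫ pr))) := isOpen_range_points_map _
    (repWith_comp @Etale (repWith_isOpenImmersion_le_etale hj) hpre)
  have hI₁o : IsOpen (Set.range (Points.map (js ≫ prs))) := isOpen_range_points_map _
    (repWith_comp @Etale (repWith_isOpenImmersion_le_etale hjs) hprse)
  have hI₁sub : ∀ y ∈ Set.range (Points.map (js ≫ prs)),
      Points.map pr y ∈ Set.range (Points.map (j ≫ pr)) := by
    rintro _ ⟨zs, rfl⟩
    refine ⟨Points.map ((yon S).map v₁) zs, ?_⟩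
    rw [← Points.map_comp, ← Points.map_comp, ← Category.assoc, ← hjs1, Category.assoc, hπ₀1,
      Category.assoc]
  -- the open subspace of `X` and its base change
  have hUo : IsAlgSpace (openSub X (Set.range (Points.map (j ≫ pr)))) := isAlgSpace_openSub hX hIo
  have sqU := ((isPullback_openSub pr (Set.range (Points.map (j ≫ pr)))).flip).paste_vert sq
  have hU' : IsAlgSpace (openSub X' (Points.map pr ⁻¹' Set.range (Points.map (j ≫ pr)))) :=
    isAlgSpace_openSub hX' (hIo.preimage (Points.continuous_map pr))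
  have hrep' : ∃ W' : Over S, Nonempty ((yon S).obj W' ≅
      openSub X' (Points.map pr ⁻¹' Set.range (Points.map (j ≫ pr)))) := by
    have h₁ : ∀ p : Points ((yon S).obj V'),
        Points.map j p ∈ Points.map pr ⁻¹' Set.range (Points.map (j ≫ pr)) :=
      fun p => ⟨p, Points.map_comp _ _ _⟩
    have h₂ : ∀ p : Points ((yon S).obj W₁),
        Points.map (e₁.hom ≫ openSubι X' (Set.range (Points.map (js ≫ prs)))) p ∈
          Points.map pr ⁻¹' Set.range (Points.map (j ≫ pr)) := by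
      intro p
      rw [Points.map_comp]
      exact hI₁sub _ (points_map_openSubι_mem X' _ _)
    have hinj := injective_points_map_of_mono
      (openSubι X' (Points.map pr ⁻¹' Set.range (Points.map (j ≫ pr))))
    refine Groth.Agent.Helper2.ZarRep.exists_iso_yon_of_two
      (openSubLift _ j h₁) (openSubLift _ _ h₂)
      (repWith_lift_of_mono @IsOpenImmersion (openSubι X' _) j _ (openSubLift_ι _ _ _) hj)
      (repWith_lift_of_mono @IsOpenImmersion (openSubι X' _) _ _ (openSubLift_ι _ _ _)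
        (repWith_comp @IsOpenImmersion (repWith_of_isIso @IsOpenImmersion e₁.hom)
          (repWith_isOpenImmersion_openSubι X' hI₁o))) (fun x => ?_)
    have hx := points_map_openSubι_mem X' _ x
    rcases mem_range_or_mem_range f g pr f' sq q₀ gs hdich prs fs sqs π₀ hπ₀1 hπ₀2 j js
      ((yon S).map v₁) sqjs _ hx with ⟨z, hz⟩ | hy
    · left
      refine ⟨z, hinj ?_⟩
      rw [← Points.map_comp, openSubLift_ι]
      exact hz
    · right
      rw [← range_points_map_openSubι X' (Set.range (Points.map (js ≫ prs)))] at hy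
      obtain ⟨p₁, hp₁⟩ := hy
      refine ⟨Points.map e₁.inv p₁, hinj ?_⟩
      rw [← Points.map_comp, openSubLift_ι, ← Points.map_comp, Iso.inv_hom_id_assoc]
      exact hp₁
  obtain ⟨W', ⟨e'⟩⟩ := hrep'
  refine exists_iso_yon_of_bc hUo (openSubι X _ ≫ f)
    (repWith_diagonal_comp @IsClosedImmersion _ f (isSeparatedMor_of_mono _) hsep)
    (locP_comp _ hUo hX (IsAlgSpace.yon_obj T) _ f
      (locP_of_repWith _ hUo.diag _
        (repWith_mono isOpenImmersion_le_lqf_lft (repWith_isOpenImmersion_openSubι X hIo))) hqf)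
    g inferInstance inferInstance _ _ sqU ?_ e'
  -- surjectivity on points
  intro p
  obtain ⟨z, hz⟩ := points_map_openSubι_mem X _ p
  have hy : Points.map j z ∈ Points.map pr ⁻¹' Set.range (Points.map (j ≫ pr)) :=
    ⟨z, Points.map_comp _ _ _⟩
  rw [← range_points_map_openSubι X' (Points.map pr ⁻¹' Set.range (Points.map (j ≫ pr)))] at hy
  obtain ⟨p', hp'⟩ := hy
  refine ⟨p', ?_⟩
  apply injective_points_map_of_mono (openSubι X (Set.range (Points.map (j ≫ pr))))
  rw [← Points.map_comp, openSubLift_ι, Points.map_comp, hp', ← Points.map_comp]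
  exact hz

theorem imageRep (n : ℕ) : ImageRep S n := by
  induction n with
  | zero => exact imageRep_zero
  | succ n ih => exact imageRep_succ n ih

end Groth.Agent.Helper2.Lqf
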