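import Mathlib
import Groth.Prelude.Def_AlgSp4
import Groth.Agent.Lib.Helper2.AlgSp.MonoFieldB
import Groth.Agent.Lib.Helper2.AlgSp.LocP
import Groth.Agent.Lib.Helper2.AlgSp.Points

/-!
# A monomorphism locally of finite type from an algebraic space to a scheme is locally
quasi-finite (helper2)
-/

set_option autoImplicit false
universe u
open CategoryTheory CategoryTheory.Limits AlgebraicGeometry Opposite AlgSp
open Groth.Agent.Helper2.AlgSpBasic Groth.Agent.Helper2.EtaleLocal Groth.Agent.Helper2.MonoFieldB

namespace Groth.Agent.Helper2.Lqf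

variable {S : Scheme.{u}}

theorem locallyQuasiFinite_of_mono_chart {Z : Sp S} (hZ : IsAlgSpace Z) {T U : Over S}
    (f : Z ⟶ (yon S).obj T) [Mono f] (a : (yon S).obj U ⟶ Z) (hae : RepWith @Etale a)
    (k : U ⟶ T) (hk : a ≫ f = (yon S).map k) : LocallyQuasiFinite k.left := by
  refine LocallyQuasiFinite.of_fiberToSpecResidueField k.left fun v => ?_
  -- the point and the fibre, over `S`
  let Kv : Over S := Over.mk (T.left.fromSpecResidueField v ≫ T.hom)
  let v' : Kv ⟶ T := Over.homMk (T.left.fromSpecResidueField v) rfl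
  let Uv : Over S := Over.mk (pullback.fst k.left (T.left.fromSpecResidueField v) ≫ U.hom)
  let p₁ : Uv ⟶ U := Over.homMk (pullback.fst k.left (T.left.fromSpecResidueField v)) rfl
  let p₂ : Uv ⟶ Kv := Over.homMk (pullback.snd k.left (T.left.fromSpecResidueField v)) (by
    change pullback.snd _ _ ≫ T.left.fromSpecResidueField v ≫ T.hom = pullback.fst _ _ ≫ U.hom
    rw [← Category.assoc, ← pullback.condition, Category.assoc, Over.w k])
  have sqU : IsPullback ((yon S).map p₁) ((yon S).map p₂) ((yon S).map k) ((yon S).map v') :=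
    yon_isPullback_of_left p₁ p₂ k v' (IsPullback.of_hasPullback k.left _)
  change LocallyQuasiFinite p₂.left
  have sqZ := IsPullback.of_hasPullback f ((yon S).map v')
  have hZv : IsAlgSpace (pullback f ((yon S).map v')) :=
    isAlgSpace_of_isPullback (IsAlgSpace.yon_obj T).diag hZ (IsAlgSpace.yon_obj Kv) f _ _ _ sqZ
  obtain ⟨l, hl1, hl2⟩ : ∃ l : (yon S).obj Uv ⟶ pullback f ((yon S).map v'),
      l ≫ pullback.fst f ((yon S).map v') = (yon S).map p₁ ≫ a ∧
      l ≫ pullback.snd f ((yon S).map v') = (yon S).map p₂ :=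
    ⟨sqZ.lift ((yon S).map p₁ ≫ a) ((yon S).map p₂) (by rw [Category.assoc, hk]; exact sqU.w),
      sqZ.lift_fst _ _ _, sqZ.lift_snd _ _ _⟩
  have sql : IsPullback ((yon S).map p₁) l a (pullback.fst f ((yon S).map v')) := by
    refine IsPullback.of_bot ?_ hl1.symm sqZ
    rw [hl2, hk]
    exact sqU
  rcases isEmpty_or_isIso_of_mono_to_field hZv (k := T.left.residueField v)
    (T.left.fromSpecResidueField v ≫ T.hom) (pullback.snd f ((yon S).map v')) with hemp | hiso
  · have : IsEmpty Uv.left := ⟨fun u => hemp.false (Points.map l (Points.schemeHomeo Uv u))⟩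
    have : IsOpenImmersion p₂.left := inferInstance
    infer_instance
  · have sq' : IsPullback ((yon S).map p₁) ((yon S).map p₂) a
        (inv (pullback.snd f ((yon S).map v')) ≫ pullback.fst f ((yon S).map v')) :=
      IsPullback.of_iso sql (Iso.refl _) (Iso.refl _) (asIso (pullback.snd f ((yon S).map v')))
        (Iso.refl _) (by simp) (by simp [hl2]) (by simp) (by simp)
    have : Etale p₂.left := hae.property _ _ _ sq'
    infer_instance

end Groth.Agent.Helper2.Lqf
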