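import Mathlib

/-!
# Étale algebras realizing a finite separable residue field extension (helper2)
-/

set_option autoImplicit false
universe u
open Polynomial

namespace Groth.Agent.Helper2.Lqf

/-- Two ring homomorphisms from the residue field at a prime agree as soon as they agree on the
ring. -/
lemma residueField_hom_ext {A : Type u} [CommRing A] (p : Ideal A) [p.IsPrime] {K : Type u}
    [Field K] (f g : p.ResidueField →+* K)
    (h : f.comp (algebraMap A p.ResidueField) = g.comp (algebraMap A p.ResidueField)) : f = g :=
  Ideal.ResidueField.ringHom_ext h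

/-- A finite separable extension `L` of the residue field of `A` at `p` is generated, as a field,
by the image of an étale `A`-algebra: ring homomorphisms out of `L` to a field are determined by
their restriction to that algebra. -/
theorem exists_etale_to_field {A : Type u} [CommRing A] (p : Ideal A) [p.IsPrime]
    (L : Type u) [Field L] [Algebra p.ResidueField L] [FiniteDimensional p.ResidueField L]
    [Algebra.IsSeparable p.ResidueField L] [Algebra A L] [IsScalarTower A p.ResidueField L] :
    ∃ (A₁ : Type u) (_ : CommRing A₁) (_ : Algebra A A₁) (_ : Algebra.Etale A A₁)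
      (φ : A₁ →ₐ[A] L), ∀ (K : Type u) [Field K] (f g : L →+* K),
        f.comp φ.toRingHom = g.comp φ.toRingHom → f = g := by
  classical
  obtain ⟨θ, hθ⟩ := Field.exists_primitive_element p.ResidueField L
  have hint : IsIntegral p.ResidueField θ := Algebra.IsIntegral.isIntegral θ
  have hm_monic : (minpoly p.ResidueField θ).Monic := minpoly.monic hint
  have hm_sep : (minpoly p.ResidueField θ).Separable := Algebra.IsSeparable.isSeparable _ θ
  obtain ⟨b, hb⟩ := IsLocalization.exist_integer_multiples_of_finset (nonZeroDivisors (A ⧸ p))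
    ((minpoly p.ResidueField θ).coeffs : Finset p.ResidueField)
  obtain ⟨s, hs⟩ := Ideal.Quotient.mk_surjective (b : A ⧸ p)
  have hsb : algebraMap A p.ResidueField s = algebraMap (A ⧸ p) p.ResidueField (b : A ⧸ p) := by
    rw [← hs]
    rfl
  have hsbar : algebraMap A p.ResidueField s ≠ 0 := by
    rw [hsb]
    exact IsLocalization.to_map_ne_zero_of_mem_nonZeroDivisors p.ResidueField le_rfl b.2
  have hrange : ∀ n, n < (minpoly p.ResidueField θ).natDegree →
      algebraMap A p.ResidueField s * (minpoly p.ResidueField θ).coeff n ∈
        Set.range (algebraMap A p.ResidueField) := by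
    intro n hn
    by_cases h0 : (minpoly p.ResidueField θ).coeff n = 0
    · exact ⟨0, by rw [h0, mul_zero, map_zero]⟩
    · obtain ⟨c, hc⟩ := hb _ (Polynomial.coeff_mem_coeffs h0)
      obtain ⟨c', rfl⟩ := Ideal.Quotient.mk_surjective c
      refine ⟨c', ?_⟩
      rw [hsb, ← Algebra.smul_def]
      exact hc
  set m := minpoly p.ResidueField θ with hm_def
  set sb := algebraMap A p.ResidueField s with hsb_def
  have hlifts : m.scaleRoots sb ∈ Polynomial.lifts (algebraMap A p.ResidueField) := by
    rw [Polynomial.lifts_iff_coeff_lifts]
    intro n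
    rw [Polynomial.coeff_scaleRoots]
    rcases lt_trichotomy n m.natDegree with hn | hn | hn
    · obtain ⟨c, hc⟩ := hrange n hn
      have h1 : m.natDegree - n = (m.natDegree - n - 1) + 1 := by omega
      rw [h1, pow_succ]
      refine ⟨s ^ (m.natDegree - n - 1) * c, ?_⟩
      rw [map_mul, map_pow, hc]
      ring
    · refine ⟨1, ?_⟩
      rw [hn, Polynomial.coeff_natDegree, hm_monic.leadingCoeff, Nat.sub_self, pow_zero, map_one,
        mul_one]
    · refine ⟨0, ?_⟩
      rw [Polynomial.coeff_eq_zero_of_natDegree_lt hn, map_zero, zero_mul]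
  obtain ⟨M, hMmap, hMdeg, hMmonic⟩ := Polynomial.lifts_and_natDegree_eq_and_monic hlifts
    ((Polynomial.monic_scaleRoots_iff sb).mpr hm_monic)
  set sL := algebraMap p.ResidueField L sb with hsL_def
  have hsL : sL ≠ 0 := by
    rw [hsL_def]
    exact fun h => hsbar ((injective_iff_map_eq_zero _).mp (algebraMap p.ResidueField L).injective
      _ h)
  set θ' : L := sL * θ with hθ'_def
  -- `M`, viewed over `L`, is the scaled minimal polynomial
  have hML : M.map (algebraMap A L) = (m.map (algebraMap p.ResidueField L)).scaleRoots sL := by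
    rw [IsScalarTower.algebraMap_eq A p.ResidueField L, ← Polynomial.map_map, hMmap,
      Polynomial.map_scaleRoots]
    rw [hm_monic.leadingCoeff, map_one]
    exact one_ne_zero
  have hmL_ne : m.map (algebraMap p.ResidueField L) ≠ 0 :=
    (hm_monic.map _).ne_zero
  have hmL_root : (m.map (algebraMap p.ResidueField L)).IsRoot θ := by
    rw [Polynomial.IsRoot.def, Polynomial.eval_map_algebraMap]
    exact minpoly.aeval _ _
  have hmult : (M.map (algebraMap A L)).rootMultiplicity θ' = 1 := by
    rw [hML, hθ'_def, Polynomial.rootMultiplicity_scaleRoots _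
      (IsUnit.mk0 sL hsL).isRegular.left]
    refine le_antisymm
      (Polynomial.rootMultiplicity_le_one_of_separable (hm_sep.map) θ) ?_
    exact (Polynomial.rootMultiplicity_pos hmL_ne).mpr hmL_root
  have hML_ne : M.map (algebraMap A L) ≠ 0 := (hMmonic.map _).ne_zero
  have h0 : Polynomial.aeval θ' M = 0 := by
    rw [← Polynomial.eval_map_algebraMap]
    have : 0 < (M.map (algebraMap A L)).rootMultiplicity θ' := by rw [hmult]; exact one_pos
    exact (Polynomial.rootMultiplicity_pos hML_ne).mp this
  have h1 : Polynomial.aeval θ' (Polynomial.derivative M) ≠ 0 := by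
    intro h
    have h2 : 1 < (M.map (algebraMap A L)).rootMultiplicity θ' := by
      rw [Polynomial.one_lt_rootMultiplicity_iff_isRoot hML_ne]
      refine ⟨?_, ?_⟩
      · rw [Polynomial.IsRoot.def, Polynomial.eval_map_algebraMap]
        exact h0
      · rw [Polynomial.IsRoot.def, Polynomial.derivative_map, Polynomial.eval_map_algebraMap]
        exact h
    rw [hmult] at h2
    exact lt_irrefl _ h2
  let P : StandardEtalePair A := ⟨M, hMmonic, Polynomial.derivative M, ⟨1, 0, 1, by ring⟩⟩
  have hP : P.HasMap θ' := ⟨h0, IsUnit.mk0 _ h1⟩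
  refine ⟨P.Ring, inferInstance, inferInstance, inferInstance, P.lift θ' hP, ?_⟩
  intro K _ f g hfg
  have hA : f.comp (algebraMap A L) = g.comp (algebraMap A L) := by
    ext a
    have := congrArg (fun φ : P.Ring →+* K => φ (algebraMap A P.Ring a)) hfg
    simpa using this
  have hκ : f.comp (algebraMap p.ResidueField L) = g.comp (algebraMap p.ResidueField L) := by
    apply residueField_hom_ext
    rw [RingHom.comp_assoc, RingHom.comp_assoc, ← IsScalarTower.algebraMap_eq]
    exact hA
  have hθ'fg : f θ' = g θ' := by
    have := congrArg (fun φ : P.Ring →+* K => φ P.X) hfg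
    simpa using this
  have hsfg : f sL = g sL := congrArg (fun φ : p.ResidueField →+* K => φ sb) hκ
  have hθfg : f θ = g θ := by
    rw [hθ'_def, map_mul, map_mul, hsfg] at hθ'fg
    refine mul_left_cancel₀ ?_ hθ'fg
    rw [← hsfg]
    exact fun h => hsL ((injective_iff_map_eq_zero _).mp f.injective _ h)
  let E : IntermediateField p.ResidueField L :=
    { RingHom.eqLocusField f g with
      algebraMap_mem' := fun r => congrArg (fun φ : p.ResidueField →+* K => φ r) hκ }
  have hE : (⊤ : IntermediateField p.ResidueField L) ≤ E := by
    rw [← hθ, IntermediateField.adjoin_simple_le_iff]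
    exact hθfg
  ext x
  exact hE (IntermediateField.mem_top (x := x))

end Groth.Agent.Helper2.Lqf
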