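import Mathlib
import Groth.Agent.Lib.Helper2.Lqf.ResField

/-!
# Unique extension of field-valued points (helper2)

`UniqueExt R S Q`: ring homomorphisms from `S` to a field with kernel `Q` are determined by their
restriction to `R` (i.e. the residue field extension at `Q` is purely inseparable, phrased via
points).
-/

set_option autoImplicit false
universe u
open TensorProduct

namespace Groth.Agent.Helper2.Lqf

/-- Ring homomorphisms from `S` to a field with kernel `Q` are determined by their restriction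
to `R`. -/
def UniqueExt (R S : Type u) [CommRing R] [CommRing S] [Algebra R S] (Q : Ideal S) : Prop :=
  ∀ (K : Type u) [Field K] (α β : S →+* K), RingHom.ker α = Q → RingHom.ker β = Q →
    α.comp (algebraMap R S) = β.comp (algebraMap R S) → α = β

/-- A ring homomorphism to a field with kernel `Q` factors through the residue field at `Q`. -/
lemma exists_residueField_lift {S : Type u} [CommRing S] (Q : Ideal S) [Q.IsPrime] {K : Type u}
    [Field K] (α : S →+* K) (hα : RingHom.ker α = Q) :
    ∃ α' : Q.ResidueField →+* K, α'.comp (algebraMap S Q.ResidueField) = α := by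
  refine ⟨Ideal.ResidueField.lift Q α hα.ge ?_, ?_⟩
  · intro x hx
    simp only [Submonoid.mem_comap, IsUnit.mem_submonoid_iff]
    refine IsUnit.mk0 _ ?_
    intro h
    apply hx
    rw [← hα]
    exact h
  · ext x
    simp

/-- Two ring homomorphisms to a field with the same kernel `Q'`, which agree on a subring `B`
whose image generates the residue field at `Q'`..., here: `x` with `ψ x = ψ b₁ / ψ b₂`. -/
lemma eq_of_ker_eq_of_frac {S : Type u} [CommRing S] {K : Type u} [Field K]
    (α β : S →+* K) (hker : RingHom.ker α = RingHom.ker β) (x b₁ b₂ : S)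
    (h₂ : b₂ ∉ RingHom.ker α) (hrel : x * b₂ - b₁ ∈ RingHom.ker α)
    (e₁ : α b₁ = β b₁) (e₂ : α b₂ = β b₂) : α x = β x := by
  have ha : α x * α b₂ = α b₁ := by
    have := hrel
    rw [RingHom.mem_ker, map_sub, map_mul, sub_eq_zero] at this
    exact this
  have hb : β x * β b₂ = β b₁ := by
    have := hrel
    rw [hker, RingHom.mem_ker, map_sub, map_mul, sub_eq_zero] at this
    exact this
  have h2 : α b₂ ≠ 0 := fun h => h₂ h
  rw [← e₁, ← e₂] at hb
  exact mul_right_cancel₀ h2 (ha.trans hb.symm)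

/-- Every element of the residue field at `q` is a fraction of images of elements of the ring. -/
lemma exists_frac_residueField {B : Type u} [CommRing B] (q : Ideal B) [q.IsPrime]
    (z : q.ResidueField) :
    ∃ b₁ b₂ : B, b₂ ∉ q ∧ z * algebraMap B q.ResidueField b₂ = algebraMap B q.ResidueField b₁ := by
  obtain ⟨z', rfl⟩ := IsLocalRing.residue_surjective z
  obtain ⟨⟨b₁, b₂⟩, h⟩ := IsLocalization.surj q.primeCompl z'
  refine ⟨b₁, b₂.1, b₂.2, ?_⟩
  have := congrArg (IsLocalRing.residue (Localization.AtPrime q)) h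
  rw [map_mul] at this
  exact this

attribute [local instance] Localization.AtPrime.algebraOfLiesOver

/-- **Residue field enlargement.** If `B` is quasi-finite over `A` at `q` (over `p`), there is an
étale `A`-algebra `A₁` and a prime `q₁` of `A₁ ⊗ B` over `q` at which field-valued points are
determined by their restriction to `A₁`. -/
theorem exists_etale_uniqueExt {A B : Type u} [CommRing A] [CommRing B] [Algebra A B]
    (p : Ideal A) [p.IsPrime] (q : Ideal B) [q.IsPrime] [q.LiesOver p]
    [Algebra.QuasiFiniteAt A q] :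
    ∃ (A₁ : Type u) (_ : CommRing A₁) (_ : Algebra A A₁) (_ : Algebra.Etale A A₁)
      (q₁ : Ideal (A₁ ⊗[A] B)) (_ : q₁.IsPrime),
      q₁.comap Algebra.TensorProduct.includeRight.toRingHom = q ∧
        UniqueExt A₁ (A₁ ⊗[A] B) q₁ := by
  let L := separableClosure p.ResidueField q.ResidueField
  obtain ⟨A₁, _, _, _, φ, hφ⟩ := exists_etale_to_field p L
  let f₁ : A₁ →ₐ[A] q.ResidueField := ((L.val).restrictScalars A).comp φ
  let f₂ : B →ₐ[A] q.ResidueField := IsScalarTower.toAlgHom A B q.ResidueField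
  let ψ : A₁ ⊗[A] B →ₐ[A] q.ResidueField := Algebra.TensorProduct.productMap f₁ f₂
  have hψr : ∀ b : B, ψ (1 ⊗ₜ b) = algebraMap B q.ResidueField b := fun b => by
    simp [ψ, f₂]
  have hψl : ∀ a : A₁, ψ (a ⊗ₜ 1) = ((φ a : L) : q.ResidueField) := fun a => by
    simp [ψ, f₁]
  have hq₁ : (RingHom.ker ψ.toRingHom).comap Algebra.TensorProduct.includeRight.toRingHom = q := by
    ext b
    simp only [Ideal.mem_comap, RingHom.mem_ker]
    change ψ (1 ⊗ₜ b) = 0 ↔ _
    rw [hψr, Ideal.algebraMap_residueField_eq_zero]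
  refine ⟨A₁, _, _, ‹_›, RingHom.ker ψ.toRingHom, RingHom.ker_isPrime _, hq₁, ?_⟩
  intro K _ α β hα hβ hαβ
  -- factor `α`, `β` through `ψ`
  have key : ∀ γ : A₁ ⊗[A] B →+* K, RingHom.ker γ = RingHom.ker ψ.toRingHom →
      ∃ γ' : q.ResidueField →+* K, γ = γ'.comp ψ.toRingHom := by
    intro γ hγ
    have hγB : RingHom.ker (γ.comp Algebra.TensorProduct.includeRight.toRingHom) = q := by
      rw [← hq₁, ← hγ]
      rfl
    obtain ⟨γ', hγ'⟩ := exists_residueField_lift q _ hγB
    refine ⟨γ', ?_⟩
    have hγ'B : ∀ b : B, γ' (algebraMap B q.ResidueField b) = γ (1 ⊗ₜ b) := fun b =>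
      congrArg (fun f : B →+* K => f b) hγ'
    have hker : RingHom.ker γ = RingHom.ker (γ'.comp ψ.toRingHom) := by
      rw [hγ]
      ext x
      simp only [RingHom.mem_ker, RingHom.comp_apply]
      exact ⟨fun h => by rw [h, map_zero], fun h => (map_eq_zero γ').mp h⟩
    refine RingHom.ext fun x => ?_
    obtain ⟨b₁, b₂, hb₂, hx⟩ := exists_frac_residueField q (ψ x)
    refine eq_of_ker_eq_of_frac γ (γ'.comp ψ.toRingHom) hker x (1 ⊗ₜ b₁) (1 ⊗ₜ b₂) ?_ ?_ ?_ ?_
    · rw [hγ]
      change ¬ ψ (1 ⊗ₜ b₂) = 0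
      rw [hψr, Ideal.algebraMap_residueField_eq_zero]
      exact hb₂
    · rw [hγ]
      change ψ (x * 1 ⊗ₜ b₂ - 1 ⊗ₜ b₁) = 0
      rw [map_sub, map_mul, hψr, hψr, hx, sub_self]
    · change γ (1 ⊗ₜ b₁) = γ' (ψ (1 ⊗ₜ b₁))
      rw [hψr, hγ'B]
    · change γ (1 ⊗ₜ b₂) = γ' (ψ (1 ⊗ₜ b₂))
      rw [hψr, hγ'B]
  obtain ⟨α', rfl⟩ := key α hα
  obtain ⟨β', rfl⟩ := key β hβ
  have hL : α'.comp (algebraMap L q.ResidueField) = β'.comp (algebraMap L q.ResidueField) := by
    apply hφ K
    ext a
    have := congrArg (fun f : A₁ →+* K => f a) hαβ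
    simp only [RingHom.comp_apply, Algebra.TensorProduct.algebraMap_apply,
      Algebra.algebraMap_self, RingHom.id_apply] at this
    change α' (ψ (a ⊗ₜ 1)) = β' (ψ (a ⊗ₜ 1)) at this
    rw [hψl] at this
    exact this
  have := IsPurelyInseparable.injective_comp_algebraMap L q.ResidueField K hL
  rw [this]

end Groth.Agent.Helper2.Lqf
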