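import Mathlib
import Groth.Agent.Lib.Helper2.Lqf.UniqueExt

/-!
# Étale splitting of a quasi-finite algebra at a prime, with residue field control (helper2)
-/

set_option autoImplicit false
universe u
open CategoryTheory CategoryTheory.Limits TensorProduct

namespace Groth.Agent.Helper2.Lqf

/-- The output of the étale localization of a quasi-finite algebra `φ : A → B` at a prime `q`
over `p`: an étale `A`-algebra `A'`, the pushout `C = A' ⊗ B`, a prime `P'` of `C` over `q`, and an
idempotent `e ∉ P'` with `C[1/e]` finite over `A'`, such that `P'` is the only prime of `D(e)` over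
`P = P' ∩ A'` and field valued points at `P'` are determined by their restriction to `A'`. -/
structure SplitData {A B : Type u} [CommRing A] [CommRing B] (φ : A →+* B) (p : Ideal A)
    (q : Ideal B) where
  A' : Type u
  C : Type u
  [instA' : CommRing A']
  [instC : CommRing C]
  g : A →+* A'
  φ' : A' →+* C
  g' : B →+* C
  etale : g.Etale
  po : IsPushout (CommRingCat.ofHom g) (CommRingCat.ofHom φ) (CommRingCat.ofHom φ')
    (CommRingCat.ofHom g')
  P : Ideal A'
  P' : Ideal C
  [primeP : P.IsPrime]
  [primeP' : P'.IsPrime]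
  hP : P.comap g = p
  hP'P : P'.comap φ' = P
  hP'q : P'.comap g' = q
  e : C
  idem : IsIdempotentElem e
  e_notMem : e ∉ P'
  finite : ((algebraMap C (Localization.Away e)).comp φ').Finite
  unique : ∀ P'' : Ideal C, P''.IsPrime → P''.comap φ' = P → e ∉ P'' → P'' = P'
  uniqueExt : ∀ (K : Type u) [Field K] (α β : C →+* K), RingHom.ker α = P' → RingHom.ker β = P' →
    α.comp φ' = β.comp φ' → α = β

attribute [instance] SplitData.instA' SplitData.instC SplitData.primeP SplitData.primeP'

theorem nonempty_splitData {A B : Type u} [CommRing A] [CommRing B] [Algebra A B]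
    [Algebra.FiniteType A B] (p : Ideal A) [p.IsPrime] (q : Ideal B) [q.IsPrime] [q.LiesOver p]
    [Algebra.QuasiFiniteAt A q] : Nonempty (SplitData (algebraMap A B) p q) := by
  obtain ⟨A₁, _, _, _, q₁, _, hq₁, hUE⟩ := exists_etale_uniqueExt p q
  let p₁ : Ideal A₁ := q₁.under A₁
  have : q₁.LiesOver p₁ := ⟨rfl⟩
  have : Algebra.QuasiFiniteAt A₁ q₁ := Algebra.QuasiFiniteAt.baseChange q q₁ hq₁.symm
  obtain ⟨A', _, _, _, P, _, _, e, he, P', _, _, hP'q, heP', -, hfin, huniq⟩ :=
    Algebra.exists_etale_isIdempotentElem_forall_liesOver_eq p₁ q₁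
  let iB : B →+* A₁ ⊗[A] B := Algebra.TensorProduct.includeRight.toRingHom
  let iB₁ : A₁ ⊗[A] B →+* A' ⊗[A₁] (A₁ ⊗[A] B) := Algebra.TensorProduct.includeRight.toRingHom
  have sq1 := CommRingCat.isPushout_tensorProduct A A₁ B
  have sq2 := CommRingCat.isPushout_tensorProduct A₁ A' (A₁ ⊗[A] B)
  have hpo := sq1.paste_horiz sq2
  refine ⟨{
    A' := A'
    C := A' ⊗[A₁] (A₁ ⊗[A] B)
    g := (algebraMap A₁ A').comp (algebraMap A A₁)
    φ' := Algebra.TensorProduct.includeLeftRingHom
    g' := iB₁.comp iB
    etale := RingHom.Etale.stableUnderComposition _ _ (RingHom.etale_algebraMap.mpr inferInstance)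
      (RingHom.etale_algebraMap.mpr inferInstance)
    po := hpo
    P := P
    P' := P'
    hP := ?_
    hP'P := ?_
    hP'q := ?_
    e := e
    idem := he
    e_notMem := heP'
    finite := ?_
    unique := ?_
    uniqueExt := ?_ }⟩
  · -- `P ∩ A = p`
    have h1 : P.comap (algebraMap A₁ A') = p₁ := (P.over_def p₁).symm
    have h2 : p₁.comap (algebraMap A A₁) = p := by
      have h3 : (algebraMap A₁ (A₁ ⊗[A] B)).comp (algebraMap A A₁) =
          iB.comp (algebraMap A B) := by
        ext a
        simp [iB, Algebra.TensorProduct.algebraMap_apply, Algebra.algebraMap_eq_smul_one,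
          TensorProduct.smul_tmul]
      change (q₁.comap (algebraMap A₁ (A₁ ⊗[A] B))).comap (algebraMap A A₁) = p
      rw [Ideal.comap_comap, h3, ← Ideal.comap_comap, hq₁]
      exact (q.over_def p).symm
    rw [← Ideal.comap_comap, h1, h2]
  · exact (P'.over_def P).symm
  · rw [← Ideal.comap_comap, hP'q, hq₁]
  · have : ((algebraMap (A' ⊗[A₁] (A₁ ⊗[A] B)) (Localization.Away e)).comp
        Algebra.TensorProduct.includeLeftRingHom) = algebraMap A' (Localization.Away e) := by
      ext a
      simp [IsScalarTower.algebraMap_apply A' (A' ⊗[A₁] (A₁ ⊗[A] B)) (Localization.Away e)]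
    rw [this]
    exact RingHom.finite_algebraMap.mpr hfin
  · intro P'' hP'' h1 h2
    exact huniq P'' hP'' ⟨h1.symm⟩ h2
  · intro K _ α β hα hβ hαβ
    have h1 : α.comp iB₁ = β.comp iB₁ := by
      apply hUE K
      · rw [← RingHom.comap_ker, hα]; exact hP'q
      · rw [← RingHom.comap_ker, hβ]; exact hP'q
      · ext a₁
        have := congrArg (fun f : A' →+* K => f (algebraMap A₁ A' a₁)) hαβ
        simp only [RingHom.comp_apply, Algebra.TensorProduct.includeLeftRingHom_apply] at this
        have e1 : (algebraMap A₁ A' a₁ ⊗ₜ[A₁] (1 : A₁ ⊗[A] B) : A' ⊗[A₁] (A₁ ⊗[A] B)) =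
            iB₁ (algebraMap A₁ (A₁ ⊗[A] B) a₁) := by
          simp [iB₁, Algebra.algebraMap_eq_smul_one, TensorProduct.smul_tmul]
        rw [e1] at this
        exact this
    refine RingHom.ext fun x => ?_
    induction x using TensorProduct.induction_on with
    | zero => simp
    | tmul a' b₁ =>
      have e2 : (a' ⊗ₜ[A₁] b₁ : A' ⊗[A₁] (A₁ ⊗[A] B)) =
          Algebra.TensorProduct.includeLeftRingHom a' * iB₁ b₁ := by
        simp [iB₁]
      rw [e2, map_mul, map_mul]
      congr 1
      · exact congrArg (fun f : A' →+* K => f a') hαβ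
      · exact congrArg (fun f : A₁ ⊗[A] B →+* K => f b₁) h1
    | add x y hx hy => rw [map_add, map_add, hx, hy]

end Groth.Agent.Helper2.Lqf
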