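import Mathlib
import Groth.Agent.Lib.Helper2.Lqf.Split
import Groth.Agent.Lib.Helper2.Lqf.SchBdd

/-!
# Étale localization of a quasi-finite morphism of schemes at a point (helper2)
-/

set_option autoImplicit false
universe u
open CategoryTheory CategoryTheory.Limits AlgebraicGeometry

namespace Groth.Agent.Helper2.Lqf

/-- Étale localization of `k : U ⟶ T` at a point `u` where it is quasi-finite. -/
structure SchSplit {U T : Scheme.{u}} (k : U ⟶ T) (u : U) where
  T' : Scheme.{u}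
  g : T' ⟶ T
  V : Scheme.{u}
  a : V ⟶ U
  q : V ⟶ T'
  w : a ≫ k = q ≫ g
  v : V
  N : ℕ
  affine : IsAffine T'
  etale : Etale g
  bdd : BddLifts g N
  openImm : IsOpenImmersion (pullback.lift a q w)
  finite : IsFinite q
  hv : a v = u
  unique : ∀ v' : V, q v' = q v → v' = v
  uniqueExt : ∀ (K : Type u) [Field K] (x y : Spec (.of K) ⟶ V), (∀ z, x z = v) → (∀ z, y z = v) →
    x ≫ q = y ≫ q → x = y

set_option backward.isDefEq.respectTransparency false in
theorem nonempty_schSplit {U T : Scheme.{u}} (k : U ⟶ T) [LocallyOfFiniteType k] (u : U)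
    (hu : k.QuasiFiniteAt u) : Nonempty (SchSplit k u) := by
  obtain ⟨_, ⟨T₀, hT₀, rfl⟩, huT, -⟩ := T.isBasis_affineOpens.exists_subset_of_mem_open
    (Set.mem_univ (k u)) isOpen_univ
  obtain ⟨_, ⟨U₀, hU₀, rfl⟩, huU, hUT : U₀ ≤ k ⁻¹ᵁ T₀⟩ :=
    U.isBasis_affineOpens.exists_subset_of_mem_open huT (k ⁻¹ᵁ T₀).2
  have : (k.appLE T₀ U₀ hUT).hom.FiniteType := k.finiteType_appLE hT₀ hU₀ hUT
  algebraize [(k.appLE T₀ U₀ hUT).hom]
  have : (hU₀.primeIdealOf ⟨u, huU⟩).asIdeal.LiesOver (hT₀.primeIdealOf ⟨k u, huT⟩).asIdeal := by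
    suffices hT₀.primeIdealOf ⟨k u, huT⟩ =
        Spec.map (k.appLE T₀ U₀ hUT) (hU₀.primeIdealOf ⟨u, huU⟩) from ⟨congr(($this).1)⟩
    apply hT₀.isoSpec.inv.homeomorph.injective
    apply Subtype.ext
    simp only [IsAffineOpen.primeIdealOf, Scheme.Hom.homeomorph_apply,
      ← Scheme.Hom.comp_apply, ← Scheme.Opens.ι_apply, IsAffineOpen.isoSpec_hom]
    simp
  have : Algebra.QuasiFiniteAt Γ(T, T₀) (hU₀.primeIdealOf ⟨u, huU⟩).asIdeal :=
    hu.quasiFiniteAt hU₀ hT₀ hUT huU
  obtain ⟨D⟩ := nonempty_splitData (hT₀.primeIdealOf ⟨k u, huT⟩).asIdeal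
    (hU₀.primeIdealOf ⟨u, huU⟩).asIdeal
  -- names
  obtain ⟨φ, hφ⟩ : ∃ φ : Γ(T, T₀) ⟶ Γ(U, U₀), φ = k.appLE T₀ U₀ hUT := ⟨_, rfl⟩
  obtain ⟨ψ, hψ⟩ : ∃ ψ : Γ(T, T₀) ⟶ CommRingCat.of D.A', ψ = CommRingCat.ofHom D.g := ⟨_, rfl⟩
  obtain ⟨φ', hφ'⟩ : ∃ φ' : CommRingCat.of D.A' ⟶ CommRingCat.of D.C,
    φ' = CommRingCat.ofHom D.φ' := ⟨_, rfl⟩
  obtain ⟨ψ', hψ'⟩ : ∃ ψ' : Γ(U, U₀) ⟶ CommRingCat.of D.C, ψ' = CommRingCat.ofHom D.g' :=
    ⟨_, rfl⟩
  obtain ⟨l, hl⟩ : ∃ l : CommRingCat.of D.C ⟶ CommRingCat.of (Localization.Away D.e),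
    l = CommRingCat.ofHom (algebraMap D.C (Localization.Away D.e)) := ⟨_, rfl⟩
  have hpo : IsPushout ψ φ φ' ψ' := by
    rw [hψ, hφ, hφ', hψ']
    exact D.po
  have pbS : IsPullback (Spec.map φ') (Spec.map ψ') (Spec.map ψ) (Spec.map φ) :=
    isPullback_SpecMap_of_isPushout _ _ _ _ hpo
  have hφk : Spec.map φ ≫ hT₀.fromSpec = hU₀.fromSpec ≫ k := by
    rw [hφ]
    exact IsAffineOpen.SpecMap_appLE_fromSpec k hT₀ hU₀ hUT
  have : IsOpenImmersion (Spec.map l) := by
    rw [hl]
    infer_instance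
  have hψet : Etale (Spec.map ψ) := by
    rw [HasRingHomProperty.Spec_iff (P := @Etale), hψ]
    exact D.etale
  -- the maps
  obtain ⟨g, hg⟩ : ∃ g : Spec (CommRingCat.of D.A') ⟶ T, g = Spec.map ψ ≫ hT₀.fromSpec :=
    ⟨_, rfl⟩
  obtain ⟨c, hc⟩ : ∃ c : Spec (CommRingCat.of D.C) ⟶ U, c = Spec.map ψ' ≫ hU₀.fromSpec :=
    ⟨_, rfl⟩
  have wc : c ≫ k = Spec.map φ' ≫ g := by
    rw [hc, hg, Category.assoc, ← hφk, ← Category.assoc, ← Category.assoc, pbS.w]
  -- the comparison map is an open immersion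
  have hγ : IsOpenImmersion (pullback.lift c (Spec.map φ') wc) := by
    have e₂ : Spec.map ψ ≫ hT₀.fromSpec = 𝟙 _ ≫ g := by rw [Category.id_comp, hg]
    have : pullback.lift c (Spec.map φ') wc = pbS.flip.isoPullback.hom ≫
        pullback.map (Spec.map φ) (Spec.map ψ) k g hU₀.fromSpec (𝟙 _) hT₀.fromSpec hφk e₂ := by
      apply pullback.hom_ext
      · rw [pullback.lift_fst, Category.assoc, pullback.lift_fst, ← Category.assoc,
          IsPullback.isoPullback_hom_fst, hc]
      · rw [pullback.lift_snd, Category.assoc, pullback.lift_snd, Category.comp_id,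
          IsPullback.isoPullback_hom_snd]
    rw [this]
    infer_instance
  obtain ⟨N, hN⟩ : ∃ N, RingBddLifts D.g N := by
    let _ := D.g.toAlgebra
    have : Algebra.Etale Γ(T, T₀) D.A' := RingHom.etale_algebraMap.mp D.etale
    exact exists_ringBddLifts_of_etale (R := Γ(T, T₀)) (S := D.A')
  -- the point
  have hmem : (⟨D.P', inferInstance⟩ : PrimeSpectrum D.C) ∈
      Set.range (PrimeSpectrum.comap (algebraMap D.C (Localization.Away D.e))) := by
    rw [PrimeSpectrum.localization_away_comap_range (Localization.Away D.e) D.e]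
    exact D.e_notMem
  obtain ⟨v, hv⟩ := hmem
  have hlv : Spec.map l v = ⟨D.P', inferInstance⟩ := by
    rw [hl]
    exact hv
  have hrange : ∀ v' : Spec (CommRingCat.of (Localization.Away D.e)),
      D.e ∉ (Spec.map l v').asIdeal := by
    intro v'
    have : Spec.map l v' ∈
        Set.range (PrimeSpectrum.comap (algebraMap D.C (Localization.Away D.e))) := by
      rw [hl]
      exact ⟨v', rfl⟩
    rw [PrimeSpectrum.localization_away_comap_range (Localization.Away D.e) D.e] at this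
    exact this
  have hlinj : Function.Injective (Spec.map l) := (Spec.map l).isOpenEmbedding.injective
  refine ⟨{
    T' := Spec (CommRingCat.of D.A')
    g := g
    V := Spec (CommRingCat.of (Localization.Away D.e))
    a := Spec.map l ≫ c
    q := Spec.map l ≫ Spec.map φ'
    w := by rw [Category.assoc, wc, Category.assoc]
    v := v
    N := N
    affine := inferInstance
    etale := by rw [hg]; infer_instance
    bdd := by
      rw [hg]
      exact bddLifts_comp_mono _ _ (bddLifts_specMap ψ (by rw [hψ]; exact hN))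
    openImm := ?_
    finite := ?_
    hv := ?_
    unique := ?_
    uniqueExt := ?_ }⟩
  · have : pullback.lift (Spec.map l ≫ c) (Spec.map l ≫ Spec.map φ')
        (by rw [Category.assoc, wc, Category.assoc]) =
        Spec.map l ≫ pullback.lift c (Spec.map φ') wc := by
      apply pullback.hom_ext
      · rw [pullback.lift_fst, Category.assoc, pullback.lift_fst]
      · rw [pullback.lift_snd, Category.assoc, pullback.lift_snd]
    rw [this]
    infer_instance
  · rw [← Spec.map_comp, IsFinite.SpecMap_iff, hφ', hl]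
    exact D.finite
  · rw [Scheme.Hom.comp_apply, hlv, hc, Scheme.Hom.comp_apply]
    have : Spec.map ψ' ⟨D.P', inferInstance⟩ = hU₀.primeIdealOf ⟨u, huU⟩ := by
      rw [hψ']
      exact PrimeSpectrum.ext D.hP'q
    rw [this]
    exact hU₀.fromSpec_primeIdealOf ⟨u, huU⟩
  · intro v' hv'
    apply hlinj
    rw [hlv]
    rw [Scheme.Hom.comp_apply, Scheme.Hom.comp_apply, hlv] at hv'
    have h1 : (Spec.map l v').asIdeal.comap D.φ' = D.P := by
      have := congrArg PrimeSpectrum.asIdeal hv'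
      rw [hφ'] at this
      exact this.trans D.hP'P
    exact PrimeSpectrum.ext (D.unique _ (Spec.map l v').isPrime h1 (hrange v'))
  · intro K _ x y hx hy hxy
    obtain ⟨ξ, rfl⟩ := Spec.map_surjective x
    obtain ⟨η, rfl⟩ := Spec.map_surjective y
    have key : ∀ ζ : CommRingCat.of (Localization.Away D.e) ⟶ CommRingCat.of K,
        (∀ z, Spec.map ζ z = v) →
        RingHom.ker (ζ.hom.comp (algebraMap D.C (Localization.Away D.e))) = D.P' := by
      intro ζ hζ
      have h1 := hζ ⟨⊥, Ideal.isPrime_bot⟩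
      have h2 : Spec.map l (Spec.map ζ ⟨⊥, Ideal.isPrime_bot⟩) = ⟨D.P', inferInstance⟩ := by
        rw [h1, hlv]
      have h3 := congrArg PrimeSpectrum.asIdeal h2
      rw [hl] at h3
      rw [RingHom.ker_eq_comap_bot, ← Ideal.comap_comap]
      exact h3
    have h4 : (ξ.hom.comp (algebraMap D.C (Localization.Away D.e))).comp D.φ' =
        (η.hom.comp (algebraMap D.C (Localization.Away D.e))).comp D.φ' := by
      have h := hxy
      simp only [← Spec.map_comp] at h
      have h' := Spec.map_injective h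
      rw [hφ', hl] at h'
      exact congrArg CommRingCat.Hom.hom h'
    have h5 := D.uniqueExt K _ _ (key ξ hx) (key η hy) h4
    have h6 : ξ.hom = η.hom := IsLocalization.ringHom_ext (Submonoid.powers D.e) h5
    rw [CommRingCat.hom_ext h6]

end Groth.Agent.Helper2.Lqf
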