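import Mathlib
import Groth.Prelude.Def_AlgSp4
import Groth.Agent.Lib.Helper2.Lqf.SchSplit
import Groth.Agent.Lib.Helper2.Lqf.MonoNbhd
import Groth.Agent.Lib.Helper2.AlgSp.Points

/-!
# After an étale base change, a point of a separated locally quasi-finite space over a scheme has
an open neighbourhood which is a scheme (helper2)
-/

set_option autoImplicit false
universe u
open CategoryTheory CategoryTheory.Limits AlgebraicGeometry Opposite AlgSp
open Groth.Agent.Helper2.AlgSpBasic Groth.Agent.Helper2.EtaleLocal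

namespace Groth.Agent.Helper2.Lqf

variable {S : Scheme.{u}}

theorem exists_bc_open_subscheme {X : Sp S} (hX : IsAlgSpace X) {T : Over S}
    (f : X ⟶ (yon S).obj T) (hsep : IsSeparatedMor f)
    (hqf : LocP (@LocallyQuasiFinite ⊓ @LocallyOfFiniteType) f) (x : Points X) :
    ∃ (T' : Over S) (g : T' ⟶ T) (N : ℕ) (V' : Over S)
      (j : (yon S).obj V' ⟶ pullback f ((yon S).map g)),
      Etale g.left ∧ IsSeparated g.left ∧ BddLifts g.left N ∧ RepWith @IsOpenImmersion j ∧
        x ∈ Set.range (Points.map (j ≫ pullback.fst f ((yon S).map g))) := by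
  obtain ⟨U, a, hae, has⟩ := hX.atlas
  obtain ⟨u, rfl⟩ := surjective_ofPt a has x
  obtain ⟨k, hk⟩ := (yon S).map_surjective (a ≫ f)
  have hkP : (@LocallyQuasiFinite ⊓ @LocallyOfFiniteType : MorphismProperty Scheme.{u}) k.left :=
    hqf a (𝟙 _) k hae (repWith_id _ T) (by rw [Category.comp_id, hk])
  have : LocallyQuasiFinite k.left := hkP.1
  have : LocallyOfFiniteType k.left := hkP.2
  obtain ⟨D⟩ := nonempty_schSplit k.left u (k.left.quasiFiniteAt u)
  -- objects over `S`
  let T' : Over S := Over.mk (D.g ≫ T.hom)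
  let g : T' ⟶ T := Over.homMk D.g rfl
  let V : Over S := Over.mk (D.a ≫ U.hom)
  let ao : V ⟶ U := Over.homMk D.a rfl
  let qo : V ⟶ T' := Over.homMk D.q (by
    change D.q ≫ D.g ≫ T.hom = D.a ≫ U.hom
    rw [← Category.assoc, ← D.w, Category.assoc, Over.w k])
  have hw : ao ≫ k = qo ≫ g := Over.OverMorphism.ext D.w
  -- the base change
  have sqX : IsPullback (pullback.fst f ((yon S).map g)) (pullback.snd f ((yon S).map g)) f
      ((yon S).map g) := IsPullback.of_hasPullback _ _
  have hX' : IsAlgSpace (pullback f ((yon S).map g)) :=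
    isAlgSpace_of_isPullback (IsAlgSpace.yon_obj T).diag hX (IsAlgSpace.yon_obj T') f _ _ _ sqX
  have hsep' : IsSeparatedMor (pullback.snd f ((yon S).map g)) :=
    repWith_diagonal_of_isPullback @IsClosedImmersion sqX hsep
  -- the scheme `U' = U ×_T T'`
  let U' : Over S := Over.mk (pullback.fst k.left D.g ≫ U.hom)
  let p₁ : U' ⟶ U := Over.homMk (pullback.fst k.left D.g) rfl
  let p₂ : U' ⟶ T' := Over.homMk (pullback.snd k.left D.g) (by
    change pullback.snd _ _ ≫ D.g ≫ T.hom = pullback.fst _ _ ≫ U.hom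
    rw [← Category.assoc, ← pullback.condition, Category.assoc, Over.w k])
  have sqU : IsPullback ((yon S).map p₁) ((yon S).map p₂) ((yon S).map k) ((yon S).map g) :=
    yon_isPullback_of_left p₁ p₂ k g (IsPullback.of_hasPullback k.left D.g)
  have wa : ((yon S).map p₁ ≫ a) ≫ f = (yon S).map p₂ ≫ (yon S).map g := by
    rw [Category.assoc, ← hk, sqU.w]
  obtain ⟨a', ha'1, ha'2⟩ : ∃ a' : (yon S).obj U' ⟶ pullback f ((yon S).map g),
      a' ≫ pullback.fst f ((yon S).map g) = (yon S).map p₁ ≫ a ∧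
      a' ≫ pullback.snd f ((yon S).map g) = (yon S).map p₂ :=
    ⟨pullback.lift _ _ wa, pullback.lift_fst _ _ _, pullback.lift_snd _ _ _⟩
  have sqa : IsPullback a' ((yon S).map p₁) (pullback.fst f ((yon S).map g)) a := by
    refine IsPullback.of_right ?_ ha'1 sqX.flip
    rw [ha'2, ← hk]
    exact sqU.flip
  have ha'e : RepWith @Etale a' := repWith_of_isPullback @Etale sqa.flip hae
  -- the open immersion `V ⟶ U'`
  let ιo : V ⟶ U' := Over.homMk (pullback.lift D.a D.q D.w) (by
    change pullback.lift D.a D.q D.w ≫ pullback.fst _ _ ≫ U.hom = D.a ≫ U.hom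
    rw [← Category.assoc, pullback.lift_fst])
  have hιo : IsOpenImmersion ιo.left := D.openImm
  have hιp₁ : ιo ≫ p₁ = ao := Over.OverMorphism.ext (pullback.lift_fst _ _ _)
  have hιp₂ : ιo ≫ p₂ = qo := Over.OverMorphism.ext (pullback.lift_snd _ _ _)
  have hi : RepWith @Etale ((yon S).map ιo ≫ a') :=
    repWith_comp @Etale ((repWith_yon_map_iff @Etale _).2 inferInstance) ha'e
  have hiq : ((yon S).map ιo ≫ a') ≫ pullback.snd f ((yon S).map g) = (yon S).map qo := by
    rw [Category.assoc, ha'2, ← Functor.map_comp, hιp₂]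
  obtain ⟨V₁, hvV₁, hj⟩ := exists_open_mono_nbhd hX' (pullback.snd f ((yon S).map g)) hsep'
    ((yon S).map ιo ≫ a') hi qo hiq D.finite D.v D.unique D.uniqueExt
  haveI := D.affine
  refine ⟨T', g, D.N, opensOver V₁, (yon S).map (opensOverι V₁) ≫ (yon S).map ιo ≫ a', D.etale,
    inferInstanceAs (IsSeparated D.g), D.bdd, hj, ?_⟩
  refine ⟨Points.ofScheme _ (⟨D.v, hvV₁⟩ : V₁), ?_⟩
  rw [← Points.ofPt_eq_map_ofScheme]
  have e1 : ((yon S).map (opensOverι V₁) ≫ (yon S).map ιo ≫ a') ≫
      pullback.fst f ((yon S).map g) = (yon S).map (opensOverι V₁ ≫ ao) ≫ a := by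
    rw [Category.assoc, Category.assoc, ha'1, ← Category.assoc ((yon S).map ιo),
      ← Functor.map_comp, hιp₁, ← Category.assoc, ← Functor.map_comp]
  rw [e1, ofPt_yon_map_comp]
  congr 1
  exact D.hv

end Groth.Agent.Helper2.Lqf
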