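import Mathlib
import Groth.Prelude.Def_AlgSp4
import Groth.Agent.Lib.Helper2.Lqf.Image
import Groth.Agent.Lib.Helper2.Lqf.NbhdBC

/-!
# An algebraic space which is separated and locally quasi-finite over a scheme is a scheme (helper2)
-/

set_option autoImplicit false
universe u
open CategoryTheory CategoryTheory.Limits AlgebraicGeometry Opposite AlgSp
open Groth.Agent.Helper2.AlgSpBasic Groth.Agent.Helper2.EtaleLocal

namespace Groth.Agent.Helper2.Lqf

variable {S : Scheme.{u}}

/-- Every point of `X` has an open neighbourhood which is a scheme. -/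
theorem exists_open_subscheme_nbhd {X : Sp S} (hX : IsAlgSpace X) {T : Over S}
    (f : X ⟶ (yon S).obj T) (hsep : IsSeparatedMor f)
    (hqf : LocP (@LocallyQuasiFinite ⊓ @LocallyOfFiniteType) f) (x : Points X) :
    ∃ (I : Set (Points X)) (W : Over S), IsOpen I ∧ x ∈ I ∧
      Nonempty ((yon S).obj W ≅ openSub X I) := by
  obtain ⟨T', g, N, V', j, hge, hgs, hgb, hj, hx⟩ := exists_bc_open_subscheme hX f hsep hqf x
  have sq := IsPullback.of_hasPullback f ((yon S).map g)
  have hpre : RepWith @Etale (pullback.fst f ((yon S).map g)) :=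
    repWith_of_isPullback @Etale sq.flip ((repWith_yon_map_iff @Etale g).2 hge)
  obtain ⟨W, hW⟩ := imageRep N hX f hsep hqf g hge hgs hgb _ _ sq j hj
  exact ⟨_, W, isOpen_range_points_map _
    (repWith_comp @Etale (repWith_isOpenImmersion_le_etale hj) hpre), hx, hW⟩

/-- **An algebraic space separated and locally quasi-finite over a scheme is a scheme.** -/
theorem exists_iso_yon_of_sep_lqf {X : Sp S} (hX : IsAlgSpace X) {T : Over S}
    (f : X ⟶ (yon S).obj T) (hsep : IsSeparatedMor f)
    (hqf : LocP (@LocallyQuasiFinite ⊓ @LocallyOfFiniteType) f) :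
    ∃ W : Over S, Nonempty ((yon S).obj W ≅ X) := by
  obtain ⟨U, a, hae, has⟩ := hX.atlas
  have key : ∀ u : U.left, ∃ (I : Set (Points X)) (W : Over S), IsOpen I ∧ Points.ofPt a u ∈ I ∧
      Nonempty ((yon S).obj W ≅ openSub X I) :=
    fun u => exists_open_subscheme_nbhd hX f hsep hqf _
  choose I W hIo hmem he using key
  have e : ∀ u, (yon S).obj (W u) ≅ openSub X (I u) := fun u => (he u).some
  refine Groth.Agent.Helper2.ZarRep.exists_iso_yon_of_points_cover (ι := U.left) (U := W)
    (fun u => (e u).hom ≫ openSubι X (I u))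
    (fun u => repWith_comp @IsOpenImmersion (repWith_of_isIso @IsOpenImmersion (e u).hom)
      (repWith_isOpenImmersion_openSubι X (hIo u))) (fun x => ?_)
  obtain ⟨u, rfl⟩ := surjective_ofPt a has x
  have hu := hmem u
  rw [← range_points_map_openSubι X (I u)] at hu
  obtain ⟨p, hp⟩ := hu
  obtain ⟨w, hw⟩ := (Points.schemeHomeo (W u)).surjective (Points.map (e u).inv p)
  refine ⟨u, w, ?_⟩
  rw [Points.ofPt_eq_map_ofScheme]
  have hw' : Points.ofScheme (W u) w = Points.map (e u).inv p := hw
  rw [hw', ← Points.map_comp, Iso.inv_hom_id_assoc]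
  exact hp

end Groth.Agent.Helper2.Lqf
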