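import Mathlib
import Groth.Prelude.Def_AlgSpRep
import Groth.Prelude.Def_AlgSp4
import Groth.Agent.Lib.Helper2.Lqf.Main

/-!
# A locally quasi-finite map from a scheme to a presheaf which is representable by algebraic
spaces is representable by schemes (helper2)
-/

set_option autoImplicit false
universe u
open CategoryTheory CategoryTheory.Limits AlgebraicGeometry Opposite AlgSp
open Groth.Agent.Helper2.AlgSpBasic Groth.Agent.Helper2.EtaleLocal

namespace Groth.Agent.Helper2.Lqf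

variable {S : Scheme.{u}}

theorem hom_terminal_ext {A : Sp S} (a b : A ⟶ (yon S).obj (Over.mk (𝟙 S))) : a = b := by
  apply hom_ext_yon
  intro T s
  obtain ⟨x, hx⟩ := (yon S).map_surjective (s ≫ a)
  obtain ⟨y, hy⟩ := (yon S).map_surjective (s ≫ b)
  rw [← hx, ← hy]
  congr 1
  apply Over.OverMorphism.ext
  have h1 : x.left = T.hom := (Category.comp_id _).symm.trans (Over.w x)
  have h2 : y.left = T.hom := (Category.comp_id _).symm.trans (Over.w y)
  rw [h1, h2]

theorem lqf_lft_cancel : ∀ ⦃A B C : Scheme.{u}⦄ (x : A ⟶ B) (y : B ⟶ C),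
    (@LocallyQuasiFinite ⊓ @LocallyOfFiniteType : MorphismProperty Scheme.{u}) (x ≫ y) →
    (@LocallyQuasiFinite ⊓ @LocallyOfFiniteType : MorphismProperty Scheme.{u}) x := by
  intro A B C x y h
  have h1 : LocallyQuasiFinite (x ≫ y) := h.1
  have h2 : LocallyOfFiniteType (x ≫ y) := h.2
  exact ⟨LocallyQuasiFinite.of_comp x y, locallyOfFiniteType_of_comp x y⟩

/-- A sheaf `A` with two maps to `h_X` and `h_U` which are jointly monic, such that `A ⟶ h_U` is
locally quasi-finite, is a scheme. -/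
theorem exists_iso_yon_of_jointly_mono {A : Sp S} (hA : IsAlgSpace A) {X U : Over S}
    (a : A ⟶ (yon S).obj X) (b : A ⟶ (yon S).obj U)
    (hmono : ∀ {B : Sp S} (s t : B ⟶ A), s ≫ a = t ≫ a → s ≫ b = t ≫ b → s = t)
    (hb : LocP (@LocallyQuasiFinite ⊓ @LocallyOfFiniteType) b) :
    ∃ W : Over S, Nonempty ((yon S).obj W ≅ A) := by
  obtain ⟨Z, pr₁, pr₂, sqZ⟩ := exists_isPullback_yon (IsAlgSpace.yon_obj (Over.mk (𝟙 S))).diag
    ((yon S).map (Over.homMk X.hom : X ⟶ Over.mk (𝟙 S)))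
    ((yon S).map (Over.homMk U.hom : U ⟶ Over.mk (𝟙 S)))
  obtain ⟨m, hm1, hm2⟩ : ∃ m : A ⟶ (yon S).obj Z, m ≫ (yon S).map pr₁ = a ∧
      m ≫ (yon S).map pr₂ = b :=
    ⟨sqZ.lift a b (hom_terminal_ext _ _), sqZ.lift_fst _ _ _, sqZ.lift_snd _ _ _⟩
  have : Mono m := ⟨fun s t hst => hmono s t
    (by rw [← hm1, ← Category.assoc, hst, Category.assoc])
    (by rw [← hm2, ← Category.assoc, hst, Category.assoc])⟩
  have hlqf : LocP (@LocallyQuasiFinite ⊓ @LocallyOfFiniteType) m :=
    locP_of_comp _ lqf_lft_cancel hA (IsAlgSpace.yon_obj Z) (IsAlgSpace.yon_obj U) m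
      ((yon S).map pr₂) (by rw [hm2]; exact hb)
  exact exists_iso_yon_of_sep_lqf hA m (isSeparatedMor_of_mono m) hlqf

theorem relRep_of_repBySpWith_lqf {F : PSp S} {X : Over S} (p : (pyon S).obj X ⟶ F)
    (hp : RepBySpWith (LocP (@LocallyQuasiFinite ⊓ @LocallyOfFiniteType)) p) :
    (pyon S).relativelyRepresentable p := by
  intro U ξ
  have sq := IsPullback.of_hasPullback p ξ
  obtain ⟨h, hA, hQ⟩ := hp ξ _ _ sq
  obtain ⟨W, ⟨e⟩⟩ := exists_iso_yon_of_jointly_mono (A := ⟨pullback p ξ, h⟩) hA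
    (X := X) (U := U) (ObjectProperty.homMk (pullback.fst p ξ))
    (ObjectProperty.homMk (pullback.snd p ξ))
    (fun s t h1 h2 => by
      apply ObjectProperty.hom_ext
      apply sq.hom_ext
      · exact congrArg (fun k => k.hom) h1
      · exact congrArg (fun k => k.hom) h2) hQ
  obtain ⟨s, hs⟩ := (yon S).map_surjective (e.hom ≫ ObjectProperty.homMk (pullback.snd p ξ))
  let e' : (pyon S).obj W ≅ pullback p ξ :=
    { hom := e.hom.hom
      inv := e.inv.hom
      hom_inv_id := congrArg (fun k => k.hom) e.hom_inv_id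
      inv_hom_id := congrArg (fun k => k.hom) e.inv_hom_id }
  refine ⟨W, s, e'.hom ≫ pullback.fst p ξ, ?_⟩
  have hs' : (pyon S).map s = e'.hom ≫ pullback.snd p ξ := congrArg (fun k => k.hom) hs
  rw [hs']
  exact IsPullback.of_iso sq e'.symm (Iso.refl _) (Iso.refl _) (Iso.refl _) (by simp) (by simp)
    (by simp) (by simp)

end Groth.Agent.Helper2.Lqf
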