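import Mathlib
import Groth.Prelude.Def_AlgSp4
import Groth.Agent.Lib.Helper2.Lqf.MonoLqf
import Groth.Agent.Lib.Helper2.Lqf.PshRep

/-!
# Monomorphisms locally of finite type to a scheme: source is a scheme (helper2)
-/

set_option autoImplicit false
universe u
open CategoryTheory CategoryTheory.Limits AlgebraicGeometry Opposite AlgSp
open Groth.Agent.Helper2.AlgSpBasic Groth.Agent.Helper2.EtaleLocal

namespace Groth.Agent.Helper2.Lqf

variable {S : Scheme.{u}}

/-- A monomorphism locally of finite type from an algebraic space to a scheme is locally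
quasi-finite. -/
theorem locP_lqf_lft_of_mono_to_scheme {Z : Sp S} (hZ : IsAlgSpace Z) {T : Over S}
    (f : Z ⟶ (yon S).obj T) [Mono f] (hlft : LocP @LocallyOfFiniteType f) :
    LocP (@LocallyQuasiFinite ⊓ @LocallyOfFiniteType) f := by
  obtain ⟨U, a, hae, has⟩ := hZ.atlas
  obtain ⟨k, hk⟩ := (yon S).map_surjective (a ≫ f)
  have comm : a ≫ f = (yon S).map k ≫ 𝟙 _ := by rw [Category.comp_id, hk]
  refine locP_of_one_chart _ hZ.diag (IsAlgSpace.yon_obj T).diag f a (𝟙 _) k hae has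
    (repWith_id _ T) comm ⟨?_, ?_⟩
  · exact locallyQuasiFinite_of_mono_chart hZ f a hae k hk.symm
  · exact hlft a (𝟙 _) k hae (repWith_id _ T) comm

/-- A monomorphism locally of finite type from an algebraic space to a scheme: the source is a
scheme. -/
theorem exists_iso_yon_of_mono_lft {Z : Sp S} (hZ : IsAlgSpace Z) {T : Over S}
    (f : Z ⟶ (yon S).obj T) [Mono f] (hlft : LocP @LocallyOfFiniteType f) :
    ∃ W : Over S, Nonempty ((yon S).obj W ≅ Z) :=
  exists_iso_yon_of_sep_lqf hZ f (isSeparatedMor_of_mono f)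
    (locP_lqf_lft_of_mono_to_scheme hZ f hlft)

theorem lft_cancel : ∀ ⦃A B C : Scheme.{u}⦄ (x : A ⟶ B) (y : B ⟶ C),
    (@LocallyOfFiniteType : MorphismProperty Scheme.{u}) (x ≫ y) →
    (@LocallyOfFiniteType : MorphismProperty Scheme.{u}) x := by
  intro A B C x y h
  have h2 : LocallyOfFiniteType (x ≫ y) := h
  exact locallyOfFiniteType_of_comp x y

/-- A sheaf `A` with two maps to `h_X` and `h_U` which are jointly monic, such that `A ⟶ h_U` is
locally of finite type, is a scheme. -/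
theorem exists_iso_yon_of_jointly_mono_lft {A : Sp S} (hA : IsAlgSpace A) {X U : Over S}
    (a : A ⟶ (yon S).obj X) (b : A ⟶ (yon S).obj U)
    (hmono : ∀ {B : Sp S} (s t : B ⟶ A), s ≫ a = t ≫ a → s ≫ b = t ≫ b → s = t)
    (hb : LocP @LocallyOfFiniteType b) :
    ∃ W : Over S, Nonempty ((yon S).obj W ≅ A) := by
  obtain ⟨Z, pr₁, pr₂, sqZ⟩ := exists_isPullback_yon (IsAlgSpace.yon_obj (Over.mk (𝟙 S))).diag
    ((yon S).map (Over.homMk X.hom : X ⟶ Over.mk (𝟙 S)))
    ((yon S).map (Over.homMk U.hom : U ⟶ Over.mk (𝟙 S)))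
  obtain ⟨m, hm1, hm2⟩ : ∃ m : A ⟶ (yon S).obj Z, m ≫ (yon S).map pr₁ = a ∧
      m ≫ (yon S).map pr₂ = b :=
    ⟨sqZ.lift a b (hom_terminal_ext _ _), sqZ.lift_fst _ _ _, sqZ.lift_snd _ _ _⟩
  have : Mono m := ⟨fun s t hst => hmono s t
    (by rw [← hm1, ← Category.assoc, hst, Category.assoc])
    (by rw [← hm2, ← Category.assoc, hst, Category.assoc])⟩
  have hlft : LocP @LocallyOfFiniteType m :=
    locP_of_comp _ lft_cancel hA (IsAlgSpace.yon_obj Z) (IsAlgSpace.yon_obj U) m
      ((yon S).map pr₂) (by rw [hm2]; exact hb)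
  exact exists_iso_yon_of_mono_lft hA m hlft

end Groth.Agent.Helper2.Lqf
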