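import Mathlib
import Groth.Prelude.Def_AlgSp4
import Groth.Agent.Lib.Helper2.Lqf.Main

/-!
# Separated locally quasi-finite morphisms of algebraic spaces are representable (helper2)
-/

set_option autoImplicit false
universe u
open CategoryTheory CategoryTheory.Limits AlgebraicGeometry Opposite AlgSp
open Groth.Agent.Helper2.AlgSpBasic Groth.Agent.Helper2.EtaleLocal

namespace Groth.Agent.Helper2.Lqf

variable {S : Scheme.{u}}

theorem representable_of_sep_lqf {X Y : Sp S} (hX : IsAlgSpace X) (hY : IsAlgSpace Y) (f : X ⟶ Y)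
    (hsep : IsSeparatedMor f) (hqf : LocP (@LocallyQuasiFinite ⊓ @LocallyOfFiniteType) f) :
    Representable f := by
  intro U ξ
  have sq := IsPullback.of_hasPullback f ξ
  have hP : IsAlgSpace (pullback f ξ) :=
    isAlgSpace_of_isPullback hY.diag hX (IsAlgSpace.yon_obj U) f ξ _ _ sq
  have hsep' : IsSeparatedMor (pullback.snd f ξ) :=
    repWith_diagonal_of_isPullback @IsClosedImmersion sq hsep
  have hqf' : LocP (@LocallyQuasiFinite ⊓ @LocallyOfFiniteType) (pullback.snd f ξ) :=
    locP_of_isPullback _ hX hY (IsAlgSpace.yon_obj U) hP f ξ _ _ sq hqf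
  obtain ⟨W, ⟨e⟩⟩ := exists_iso_yon_of_sep_lqf hP (pullback.snd f ξ) hsep' hqf'
  obtain ⟨s, hs⟩ := (yon S).map_surjective (e.hom ≫ pullback.snd f ξ)
  refine ⟨W, s, e.hom ≫ pullback.fst f ξ, ?_⟩
  rw [hs]
  exact IsPullback.of_iso sq e.symm (Iso.refl _) (Iso.refl _) (Iso.refl _) (by simp) (by simp)
    (by simp) (by simp)

end Groth.Agent.Helper2.Lqf
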