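import Mathlib
import Groth.Prelude.Def_AlgSpInf
import Groth.Prelude.Def_AlgSp4
import Groth.Agent.Lib.Helper2.Lqf.MonoLqf2
import Groth.Agent.Lib.Helper2.Lqf.RepMor
import Groth.Agent.Lib.Helper2.AlgSp.UnrInjW
import Groth.Agent.Lib.Helper2.AlgSp.UnramDiag
import Groth.Agent.Lib.Helper2.AlgSp.FormalUnr
import Groth.Agent.Lib.Helper2.AlgSp.LargestOpen

/-!
# Unramified monomorphisms of algebraic spaces (helper2)
-/

set_option autoImplicit false
universe u
open CategoryTheory CategoryTheory.Limits AlgebraicGeometry Opposite AlgSp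
open Groth.Agent.Helper2.AlgSpBasic Groth.Agent.Helper2.EtaleLocal Groth.Agent.Helper2.UnrAtSp

namespace Groth.Agent.Helper2.Lqf

variable {S : Scheme.{u}}

theorem isFormallyUnramifiedMor_of_mono {X Y : Sp S} (f : X ⟶ Y) [Mono f] :
    IsFormallyUnramifiedMor f := by
  intro sq l l' _ h2 _ h4
  rw [← cancel_mono f, h2, h4]

theorem locP_unr_of_lft_formallyUnramified {X Y : Sp S} (f : X ⟶ Y)
    (hlft : LocP @LocallyOfFiniteType f) (hfu : IsFormallyUnramifiedMor f) :
    LocP (@LocallyOfFiniteType ⊓ @FormallyUnramified) f :=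
  fun _ _ a b h ha hb comm =>
    ⟨hlft a b h ha hb comm, Groth.Agent.Helper2.AlgSpFormal.formallyUnramified_chart f hfu a b h ha comm⟩

theorem mono_of_unr_univInj {X Y : Sp S} (hX : IsAlgSpace X) (hY : IsAlgSpace Y) (f : X ⟶ Y)
    (hunr : LocP (@LocallyOfFiniteType ⊓ @FormallyUnramified) f) (hui : IsUnivInjectiveMor f) :
    Mono f := by
  have hPP : IsAlgSpace (pullback f f) :=
    isAlgSpace_of_isPullback hY.diag hX hX f f _ _ (IsPullback.of_hasPullback f f)
  have hOI := repWith_isOpenImmersion_diagonal_of_unramified hX hY f hunr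
  have hs := surjective_diagonal_of_isUnivInjectiveMor hX f hui
  have : Mono (pullback.diagonal f) := mono_of_repWith_isOpenImmersion _ hOI
  have : IsIso (pullback.diagonal f) := (isIso_iff_mono_etale_surjective hX hPP _).2
    ⟨inferInstance, locP_etale_of_repWith_isOpenImmersion hX _ hOI, hs⟩
  exact (pullback.isIso_diagonal_iff f).1 this

theorem isUnivInjectiveMor_of_mono {X Y : Sp S} (f : X ⟶ Y) [Mono f] : IsUnivInjectiveMor f := by
  apply isUnivInjectiveMor_of_surjective_diagonal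
  have : IsIso (pullback.diagonal f) := (pullback.isIso_diagonal_iff f).2 inferInstance
  intro y
  exact ⟨Points.map (inv (pullback.diagonal f)) y, by
    rw [← Points.map_comp, IsIso.inv_hom_id, Points.map_id]⟩

/-- A monomorphism locally of finite type of algebraic spaces is locally quasi-finite. -/
theorem locP_lqf_lft_of_mono {X Y : Sp S} (hX : IsAlgSpace X) (hY : IsAlgSpace Y) (f : X ⟶ Y)
    [Mono f] (hlft : LocP @LocallyOfFiniteType f) :
    LocP (@LocallyQuasiFinite ⊓ @LocallyOfFiniteType) f := by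
  obtain ⟨V, b, hbe, hbs⟩ := hY.atlas
  have sq := IsPullback.of_hasPullback f b
  have hQ : IsAlgSpace (pullback f b) :=
    isAlgSpace_of_isPullback hY.diag hX (IsAlgSpace.yon_obj V) f b _ _ sq
  have h1 : LocP @LocallyOfFiniteType (pullback.snd f b) :=
    locP_of_isPullback _ hX hY (IsAlgSpace.yon_obj V) hQ f b _ _ sq hlft
  exact locP_of_target_cover _ hX hY f V b hbe hbs _ _ sq
    (locP_lqf_lft_of_mono_to_scheme hQ (pullback.snd f b) h1)

theorem unramified_mono_tfae {X Y : Sp S} (hX : IsAlgSpace X) (hY : IsAlgSpace Y) (f : X ⟶ Y) :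
    ((LocP (@LocallyOfFiniteType ⊓ @FormallyUnramified) f ∧ Mono f) ↔
      (LocP (@LocallyOfFiniteType ⊓ @FormallyUnramified) f ∧ IsUnivInjectiveMor f)) ∧
    ((LocP (@LocallyOfFiniteType ⊓ @FormallyUnramified) f ∧ Mono f) ↔
      (LocP @LocallyOfFiniteType f ∧ Mono f)) ∧
    ((LocP (@LocallyOfFiniteType ⊓ @FormallyUnramified) f ∧ Mono f) ↔
      (IsUnivInjectiveMor f ∧ LocP @LocallyOfFiniteType f ∧ IsFormallyUnramifiedMor f)) ∧
    (LocP @LocallyOfFiniteType f ∧ Mono f →
      Representable f ∧ IsSeparatedMor f ∧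
        LocP (@LocallyQuasiFinite ⊓ @LocallyOfFiniteType) f) := by
  refine ⟨⟨?_, ?_⟩, ⟨?_, ?_⟩, ⟨?_, ?_⟩, ?_⟩
  · rintro ⟨h1, h2⟩
    exact ⟨h1, isUnivInjectiveMor_of_mono f⟩
  · rintro ⟨h1, h2⟩
    exact ⟨h1, mono_of_unr_univInj hX hY f h1 h2⟩
  · rintro ⟨h1, h2⟩
    exact ⟨locP_mono inf_le_left h1, h2⟩
  · rintro ⟨h1, h2⟩
    exact ⟨locP_unr_of_lft_formallyUnramified f h1 (isFormallyUnramifiedMor_of_mono f), h2⟩
  · rintro ⟨h1, h2⟩
    exact ⟨isUnivInjectiveMor_of_mono f, locP_mono inf_le_left h1,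
      isFormallyUnramifiedMor_of_mono f⟩
  · rintro ⟨h1, h2, h3⟩
    have hunr := locP_unr_of_lft_formallyUnramified f h2 h3
    exact ⟨hunr, mono_of_unr_univInj hX hY f hunr h1⟩
  · rintro ⟨h1, h2⟩
    have hqf := locP_lqf_lft_of_mono hX hY f h1
    exact ⟨representable_of_sep_lqf hX hY f (isSeparatedMor_of_mono f) hqf,
      isSeparatedMor_of_mono f, hqf⟩

end Groth.Agent.Helper2.Lqf
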