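import Mathlib
import Groth.Prelude.Def_AlgSpInf
import Groth.Prelude.Def_AlgSp4
import Groth.Agent.Lib.Helper2.Lqf.UnrMono
import Groth.Agent.Lib.Helper2.AlgSp.UnivTop
import Groth.Agent.Lib.Helper2.AlgSp.Mor2
import Groth.Agent.Lib.Helper2.AlgSp.LocP

/-!
# Closed immersions of algebraic spaces: universally closed monomorphisms locally of finite type
(helper2)
-/

set_option autoImplicit false
universe u
open CategoryTheory CategoryTheory.Limits AlgebraicGeometry Opposite AlgSp
open Groth.Agent.Helper2.AlgSpBasic Groth.Agent.Helper2.EtaleLocal

namespace Groth.Agent.Helper2.Lqf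

variable {S : Scheme.{u}}

theorem repWith_isClosedImmersion_iff {X Y : Sp S} (hX : IsAlgSpace X) (hY : IsAlgSpace Y)
    (f : X ⟶ Y) :
    RepWith @IsClosedImmersion f ↔
      (IsUnivClosedMor f ∧ LocP @LocallyOfFiniteType f ∧ Mono f) := by
  constructor
  · intro h
    have hrep : Representable f := h.rep
    refine ⟨?_, ?_, ?_⟩
    · refine (repWith_universallyClosed_iff f hrep).1 ?_
      exact repWith_mono (fun _ _ g (hg : IsClosedImmersion g) =>
        (inferInstance : UniversallyClosed g)) h
    · refine locP_of_repWith @LocallyOfFiniteType hX.diag f ?_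
      exact repWith_mono (fun _ _ g (hg : IsClosedImmersion g) =>
        (inferInstance : LocallyOfFiniteType g)) h
    · refine mono_of_repWith_monomorphisms f ?_
      exact repWith_mono (fun _ _ g (hg : IsClosedImmersion g) =>
        (inferInstance : Mono g)) h
  · rintro ⟨huc, hlft, hmono⟩
    obtain ⟨hrep, -, -⟩ := (unramified_mono_tfae hX hY f).2.2.2 ⟨hlft, hmono⟩
    have h1 : RepWith @UniversallyClosed f := (repWith_universallyClosed_iff f hrep).2 huc
    have h2 : RepWith @LocallyOfFiniteType f :=
      repWith_of_locP @LocallyOfFiniteType hX hY f hrep hlft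
    refine ⟨hrep, ?_⟩
    intro T P g fst snd sq
    have huc' : UniversallyClosed snd.left := h1.property g fst snd sq
    have hlft' : LocallyOfFiniteType snd.left := h2.property g fst snd sq
    have hm1 : Mono ((yon S).map snd) := by
      have := sq.flip
      exact MorphismProperty.of_isPullback (P := MorphismProperty.monomorphisms (Sp S)) sq
        (MorphismProperty.monomorphisms.infer_property f)
    have hm2 : Mono snd := (yon S).mono_of_mono_map hm1
    have hm3 : Mono snd.left := inferInstance
    have hprop : IsProper snd.left := { }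
    exact (IsClosedImmersion.iff_isProper_and_mono snd.left).2 ⟨hprop, hm3⟩

end Groth.Agent.Helper2.Lqf
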