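import Mathlib
import Groth.Prelude.Def_AlgSpRep
import Groth.Prelude.Def_AlgSp4
import Groth.Agent.Lib.Helper2.Lqf.PshRep
import Groth.Agent.Lib.Helper2.AlgSp.DiagRep
import Groth.Agent.Lib.Helper2.AlgSp.PointsMor
import Groth.Agent.Lib.Helper2.AlgSp.Mono

/-!
# A sheaf with an étale surjective cover by an algebraic space, representable by algebraic spaces,
is an algebraic space (helper2)
-/

set_option autoImplicit false
universe u
open CategoryTheory CategoryTheory.Limits AlgebraicGeometry Opposite AlgSp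
open Groth.Agent.Helper2.AlgSpBasic Groth.Agent.Helper2.EtaleLocal Groth.Agent.Helper2.AlgSpDesc

namespace Groth.Agent.Helper2.Lqf

variable {S : Scheme.{u}}

theorem etale_le_lqf_lft : (@Etale : MorphismProperty Scheme.{u}) ≤
    (@LocallyQuasiFinite ⊓ @LocallyOfFiniteType : MorphismProperty Scheme.{u}) := by
  intro _ _ _ h
  have : Etale _ := h
  exact ⟨inferInstance, inferInstance⟩

theorem surjective_of_surjective_points_map {W T : Over S} (w : W ⟶ T)
    (h : Function.Surjective (Points.map ((yon S).map w))) : Surjective w.left := by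
  refine ⟨fun t => ?_⟩
  obtain ⟨x, hx⟩ := h (Points.schemeHomeo T t)
  obtain ⟨y, rfl⟩ := (Points.schemeHomeo W).surjective x
  rw [Points.map_yon_map_apply] at hx
  exact ⟨y, (Points.schemeHomeo T).injective hx⟩

theorem isAlgSpace_of_repBySpWith_etale_surj {F X : Sp S} (hX : IsAlgSpace X) (p : X ⟶ F)
    (hp : RepBySpWith (IsSurjectiveMor ⊓ IsEtaleMor) p.hom) : IsAlgSpace F := by
  rw [repBySpWith_hom_iff] at hp
  obtain ⟨U, a, hae, has⟩ := hX.atlas
  have key : ∀ (T : Over S) (ξ : (yon S).obj T ⟶ F), ∃ (W : Over S)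
      (w₁ : (yon S).obj W ⟶ (yon S).obj U) (w₂ : W ⟶ T),
      IsPullback w₁ ((yon S).map w₂) (a ≫ p) ξ ∧ Etale w₂.left ∧ Surjective w₂.left := by
    intro T ξ
    have sqP := IsPullback.of_hasPullback p ξ
    obtain ⟨hP, hPs, hPe⟩ := hp ξ _ _ sqP
    have sqQ := IsPullback.of_hasPullback a (pullback.fst p ξ)
    have sqB := sqQ.paste_vert sqP
    have hQ : IsAlgSpace (pullback a (pullback.fst p ξ)) :=
      isAlgSpace_of_isPullback hX.diag (IsAlgSpace.yon_obj U) hP a _ _ _ sqQ
    have ha'e : RepWith @Etale (pullback.snd a (pullback.fst p ξ)) :=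
      repWith_of_isPullback @Etale sqQ hae
    have ha's : RepWith @Surjective (pullback.snd a (pullback.fst p ξ)) :=
      repWith_of_isPullback @Surjective sqQ has
    have h1 : LocP @Etale (pullback.snd a (pullback.fst p ξ) ≫ pullback.snd p ξ) :=
      locP_comp @Etale hQ hP (IsAlgSpace.yon_obj T) _ _
        (locP_of_repWith @Etale hQ.diag _ ha'e)
        (locP_etale_of_isEtaleMor (IsAlgSpace.yon_obj T).diag _ hPe)
    obtain ⟨W, ⟨e⟩⟩ := exists_iso_yon_of_jointly_mono hQ (pullback.fst a (pullback.fst p ξ))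
      (pullback.snd a (pullback.fst p ξ) ≫ pullback.snd p ξ)
      (fun s t h1 h2 => sqB.hom_ext h1 h2) (locP_mono etale_le_lqf_lft h1)
    obtain ⟨w₂, hw₂⟩ := (yon S).map_surjective
      (e.hom ≫ pullback.snd a (pullback.fst p ξ) ≫ pullback.snd p ξ)
    refine ⟨W, e.hom ≫ pullback.fst a (pullback.fst p ξ), w₂, ?_, ?_, ?_⟩
    · rw [hw₂]
      exact IsPullback.of_iso sqB e.symm (Iso.refl _) (Iso.refl _) (Iso.refl _) (by simp)
        (by simp) (by simp) (by simp)
    · have h2 : LocP @Etale ((yon S).map w₂) := by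
        rw [hw₂]
        exact locP_comp @Etale (IsAlgSpace.yon_obj W) hQ (IsAlgSpace.yon_obj T) e.hom _
          (locP_of_isIso @Etale hQ.diag e.hom) h1
      exact locP_yon_map h2
    · apply surjective_of_surjective_points_map
      rw [hw₂]
      intro y
      obtain ⟨y₁, hy₁⟩ := hPs y
      obtain ⟨y₂, hy₂⟩ := isSurjectiveMor_of_repWith_surjective _ ha's y₁
      refine ⟨Points.map e.inv y₂, ?_⟩
      rw [← Points.map_comp, Iso.inv_hom_id_assoc, Points.map_comp, hy₂, hy₁]
  have hrep : Representable (a ≫ p) := by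
    intro T ξ
    obtain ⟨W, w₁, w₂, sq, -, -⟩ := key T ξ
    exact ⟨W, w₂, w₁, sq⟩
  have hce : RepWith @Etale (a ≫ p) := by
    refine MorphismProperty.relative.of_exists fun T ξ => ?_
    obtain ⟨W, w₁, w₂, sq, he, -⟩ := key T ξ
    exact ⟨W, w₁, w₂, sq, he⟩
  have hcs : RepWith @Surjective (a ≫ p) := by
    refine MorphismProperty.relative.of_exists fun T ξ => ?_
    obtain ⟨W, w₁, w₂, sq, -, hs⟩ := key T ξ
    exact ⟨W, w₁, w₂, sq, hs⟩
  exact ⟨representable_diag_of_chart (a ≫ p) hrep (repWith_flat_of_etale hce)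
    (repWith_lfp_of_etale hce) hcs, U, a ≫ p, hce, hcs⟩

end Groth.Agent.Helper2.Lqf
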