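import Mathlib
import Groth.Prelude.Def_AlgSp4
import Groth.Prelude.Def_AlgSpDec
import Groth.Agent.Lib.Helper2.Lqf.Main
import Groth.Agent.Lib.Helper2.Lqf.SchSplit
import Groth.Agent.Lib.Helper2.AlgSp.QfAtBCSp
import Groth.Agent.Lib.Helper2.AlgSp.QfLocusSp
import Groth.Agent.Lib.Helper2.AlgSp.Mor2
import Groth.Agent.Lib.Helper2.AlgSp.Points
import Groth.Agent.Lib.Helper2.AlgSp.FinLocFree

/-!
# Étale localization of a morphism of algebraic spaces at a quasi-finite point (helper2)
-/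

set_option autoImplicit false
universe u
open CategoryTheory CategoryTheory.Limits AlgebraicGeometry Opposite AlgSp
open Groth.Agent.Helper2.AlgSpBasic Groth.Agent.Helper2.EtaleLocal
open Groth.Agent.Helper2.QfAtSp

namespace Groth.Agent.Helper2.Lqf

variable {S : Scheme.{u}}

/-- Scheme-level étale splitting, packaged over `S`. -/
theorem exists_over_split {W0 T : Over S} (k0 : W0 ⟶ T) [LocallyOfFiniteType k0.left]
    (w0 : W0.left) (hq : k0.left.QuasiFiniteAt w0) :
    ∃ (T' Q V0 : Over S) (g : T' ⟶ T) (pW : Q ⟶ W0) (pT : Q ⟶ T') (m : V0 ⟶ Q) (v : V0.left),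
      IsAffine T'.left ∧ Etale g.left ∧ IsPullback pW pT k0 g ∧ IsOpenImmersion m.left ∧
      IsFinite (m ≫ pT).left ∧ (m ≫ pW).left v = w0 := by
  obtain ⟨D⟩ := nonempty_schSplit k0.left w0 hq
  let B := overBC k0 D.g
  have hm : pullback.lift D.a D.q D.w ≫ B.V'.hom = D.q ≫ B.T'.hom := by
    change pullback.lift D.a D.q D.w ≫ pullback.snd k0.left D.g ≫ D.g ≫ T.hom = D.q ≫ D.g ≫ T.hom
    rw [pullback.lift_snd_assoc]
  let V0 : Over S := Over.mk (D.q ≫ B.T'.hom)
  let m : V0 ⟶ B.V' := Over.homMk (pullback.lift D.a D.q D.w) hm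
  refine ⟨B.T', B.V', V0, B.c', B.fst', B.snd', m, D.v, D.affine, D.etale, B.sq, D.openImm, ?_, ?_⟩
  · have : (m ≫ B.snd').left = D.q := by
      change pullback.lift D.a D.q D.w ≫ pullback.snd k0.left D.g = D.q
      rw [pullback.lift_snd]
    rw [this]
    exact D.finite
  · have : (m ≫ B.fst').left = D.a := by
      change pullback.lift D.a D.q D.w ≫ pullback.fst k0.left D.g = D.a
      rw [pullback.lift_fst]
    rw [this]
    exact D.hv


/-- **Étale localization at a quasi-finite point** of a separated, locally finite type morphism of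
algebraic spaces: an étale neighbourhood `h_{T'} ⟶ Y` and a scheme `V0` finite over `T'`, mapping
to `X`, hitting `x`, which is open in every fibre product `X ×_Y h_{T'}`. -/
theorem exists_etale_split {X Y : Sp S} (hX : IsAlgSpace X) (hY : IsAlgSpace Y) (f : X ⟶ Y)
    (x : Points X) (hf1 : LocP @LocallyOfFiniteType f) (hf2 : IsSeparatedMor f)
    (hf3 : HasAtMor QfQ f x) :
    ∃ (T' V0 : Over S) (a : (yon S).obj T' ⟶ Y) (q : V0 ⟶ T') (c : (yon S).obj V0 ⟶ X)
      (v : V0.left),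
      RepWith @Etale a ∧ c ≫ f = (yon S).map q ≫ a ∧ IsFinite q.left ∧
      Points.ofPt c v = x ∧
      ∀ (P : Sp S) (prX : P ⟶ X) (prU : P ⟶ (yon S).obj T'), IsPullback prX prU f a →
        ∀ l : (yon S).obj V0 ⟶ P, l ≫ prX = c → l ≫ prU = (yon S).map q →
          RepWith @IsOpenImmersion l := by
  obtain ⟨V1, b, hbe, hbs⟩ := hY.atlas
  obtain ⟨X1, e1, f1, sq1⟩ : ∃ (X1 : Sp S) (e1 : X1 ⟶ X) (f1 : X1 ⟶ (yon S).obj V1),
    IsPullback e1 f1 f b := ⟨_, _, _, IsPullback.of_hasPullback f b⟩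
  have hV1 : IsAlgSpace ((yon S).obj V1) := IsAlgSpace.yon_obj V1
  have hX1 : IsAlgSpace X1 := isAlgSpace_of_isPullback hY.diag hX hV1 f b e1 f1 sq1
  have hf1' : LocP @LocallyOfFiniteType f1 :=
    locP_of_isPullback @LocallyOfFiniteType hX hY hV1 hX1 f b e1 f1 sq1 hf1
  have hes : IsSurjectiveMor e1 := isSurjectiveMor_fst_of_isPullback sq1 hbs
  obtain ⟨x1, hx1⟩ := hes x
  have hq1 : HasAtMor QfQ f1 x1 :=
    (Groth.Agent.Helper2.QfAtBCSp.hasAtMor_qf_bc_iff hX hY hX1 hV1 f b e1 f1 sq1 hf1 x1).2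
      (hx1 ▸ hf3)
  -- the quasi-finite locus
  obtain ⟨O, hOdef⟩ : ∃ O : Set (Points X1), O = {p : Points X1 | HasAtMor QfQ f1 p} := ⟨_, rfl⟩
  have hO : IsOpen O := by
    rw [hOdef]
    exact Groth.Agent.Helper2.QfLocusSp.isOpen_qfLocus hX1 hV1 f1 hf1'
  have hW : IsAlgSpace (openSub X1 O) := isAlgSpace_openSub hX1 hO
  have hjo : RepWith @IsOpenImmersion (openSubι X1 O) := repWith_isOpenImmersion_openSubι X1 hO
  obtain ⟨w, hw⟩ : ∃ w : Points (openSub X1 O), Points.map (openSubι X1 O) w = x1 := by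
    have : x1 ∈ Set.range (Points.map (openSubι X1 O)) := by
      rw [range_points_map_openSubι, hOdef]
      exact hq1
    exact this
  have hk : LocP (@LocallyQuasiFinite ⊓ @LocallyOfFiniteType) (openSubι X1 O ≫ f1) :=
    Groth.Agent.Helper2.QfLocusSp.locP_lqf_of_range_subset hX1 hV1 f1 hf1' (openSubι X1 O) hjo
      (by rw [range_points_map_openSubι, hOdef])
  have hf1s : IsSeparatedMor f1 := repWith_diagonal_of_isPullback @IsClosedImmersion sq1 hf2
  have hks : IsSeparatedMor (openSubι X1 O ≫ f1) :=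
    repWith_diagonal_comp @IsClosedImmersion (openSubι X1 O) f1 (isSeparatedMor_of_mono _) hf1s
  obtain ⟨W0, ⟨ε⟩⟩ := exists_iso_yon_of_sep_lqf hW (openSubι X1 O ≫ f1) hks hk
  obtain ⟨j, hj⟩ : ∃ j : openSub X1 O ⟶ X1, j = openSubι X1 O := ⟨_, rfl⟩
  rw [← hj] at hw hk hjo
  obtain ⟨k0, hk0⟩ : ∃ k0 : W0 ⟶ V1, (yon S).map k0 = ε.hom ≫ j ≫ f1 :=
    ⟨(yon S).preimage _, (yon S).map_preimage _⟩
  have hk0P : LocP (@LocallyQuasiFinite ⊓ @LocallyOfFiniteType) ((yon S).map k0) := by
    rw [hk0]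
    exact locP_comp _ (IsAlgSpace.yon_obj W0) hW hV1 ε.hom (j ≫ f1)
      (locP_of_isIso _ hW.diag ε.hom) hk
  have hk0' := locP_yon_map hk0P
  have : LocallyOfFiniteType k0.left := hk0'.2
  have : LocallyQuasiFinite k0.left := hk0'.1
  -- the point of `W0`
  obtain ⟨w0, hw0⟩ : ∃ w0 : W0.left, Points.ofPt ε.hom w0 = w := by
    refine ⟨(Points.schemeHomeo W0).symm (Points.map ε.inv w), ?_⟩
    rw [Points.ofPt_eq_map_ofScheme]
    have h1 : Points.ofScheme W0 ((Points.schemeHomeo W0).symm (Points.map ε.inv w)) =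
        Points.map ε.inv w := (Points.schemeHomeo W0).apply_symm_apply _
    rw [h1, ← Points.map_comp, ε.inv_hom_id, Points.map_id]
  have hq0 : k0.left.QuasiFiniteAt w0 := Scheme.Hom.quasiFiniteAt k0.left w0
  obtain ⟨T', Q, V0, g, pW, pT, m, v, -, hge, sqQ, hmo, hfin, hv⟩ :=
    exists_over_split k0 w0 hq0
  have hk0b : ε.hom ≫ j ≫ f1 ≫ b = (yon S).map k0 ≫ b := by
    rw [hk0, Category.assoc, Category.assoc]
  have hQw : (yon S).map pW ≫ (yon S).map k0 = (yon S).map pT ≫ (yon S).map g := by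
    rw [← Functor.map_comp, ← Functor.map_comp, sqQ.w]
  refine ⟨T', V0, (yon S).map g ≫ b, m ≫ pT, (yon S).map (m ≫ pW) ≫ ε.hom ≫ j ≫ e1, v,
    repWith_comp @Etale ((repWith_yon_map_iff @Etale g).2 hge) hbe, ?_, hfin, ?_, ?_⟩
  · -- commutativity
    calc ((yon S).map (m ≫ pW) ≫ ε.hom ≫ j ≫ e1) ≫ f
        = (yon S).map m ≫ (yon S).map pW ≫ ε.hom ≫ j ≫ e1 ≫ f := by
          simp only [Functor.map_comp, Category.assoc]
      _ = (yon S).map m ≫ (yon S).map pW ≫ ε.hom ≫ j ≫ f1 ≫ b := by rw [sq1.w]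
      _ = (yon S).map m ≫ (yon S).map pW ≫ (yon S).map k0 ≫ b := by rw [hk0b]
      _ = (yon S).map m ≫ (yon S).map pT ≫ (yon S).map g ≫ b := by
          rw [← Category.assoc ((yon S).map pW), hQw, Category.assoc]
      _ = (yon S).map (m ≫ pT) ≫ (yon S).map g ≫ b := by
          simp only [Functor.map_comp, Category.assoc]
  · -- the point
    rw [ofPt_yon_map_comp, hv, ← Points.map_ofPt, hw0, Points.map_comp, hw, hx1]
  · -- the open immersion
    intro P prX prU sqP l hl1 hl2
    obtain ⟨p1, hp1a, hp1b⟩ : ∃ p1 : P ⟶ X1, p1 ≫ e1 = prX ∧ p1 ≫ f1 = prU ≫ (yon S).map g :=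
      ⟨sq1.lift prX (prU ≫ (yon S).map g) (by rw [sqP.w, Category.assoc]),
        sq1.lift_fst _ _ _, sq1.lift_snd _ _ _⟩
    have sqR : IsPullback prU p1 ((yon S).map g) f1 := by
      refine IsPullback.of_bot ?_ hp1b.symm sq1.flip
      rw [hp1a]
      exact sqP.flip
    have sqQ' : IsPullback ((yon S).map pT) ((yon S).map pW ≫ ε.hom) ((yon S).map g) (j ≫ f1) := by
      have h0 := sqQ.map (yon S)
      rw [hk0] at h0
      refine IsPullback.flip (IsPullback.of_iso h0 (Iso.refl _) ε (Iso.refl _) (Iso.refl _)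
        ?_ ?_ ?_ ?_)
      · simp
      · simp
      · simp
      · simp
    obtain ⟨n, hn1, hn2⟩ : ∃ n : (yon S).obj Q ⟶ P, n ≫ prU = (yon S).map pT ∧
        n ≫ p1 = ((yon S).map pW ≫ ε.hom) ≫ j :=
      ⟨sqR.lift ((yon S).map pT) (((yon S).map pW ≫ ε.hom) ≫ j) (by
          rw [Category.assoc]; exact sqQ'.w),
        sqR.lift_fst _ _ _, sqR.lift_snd _ _ _⟩
    have sqL : IsPullback n ((yon S).map pW ≫ ε.hom) p1 j := by
      refine IsPullback.of_right ?_ hn2 sqR
      rw [hn1]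
      exact sqQ'
    have hn : RepWith @IsOpenImmersion n := repWith_of_isPullback @IsOpenImmersion sqL.flip hjo
    have hm : RepWith @IsOpenImmersion ((yon S).map m) :=
      (repWith_yon_map_iff @IsOpenImmersion m).2 hmo
    have hl : l = (yon S).map m ≫ n := by
      apply sqP.hom_ext
      · rw [hl1, Category.assoc, ← hp1a, ← Category.assoc n, hn2]
        simp only [Functor.map_comp, Category.assoc]
      · rw [hl2, Category.assoc, hn1, Functor.map_comp]
    rw [hl]
    exact repWith_comp @IsOpenImmersion hm hn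


/-- A morphism representable by finite open immersions is representable by closed immersions. -/
theorem repWith_isClosedImmersion_of_finite_of_open {F G : Sp S} {l : F ⟶ G}
    (h1 : RepWith @IsFinite l) (h2 : RepWith @IsOpenImmersion l) :
    RepWith @IsClosedImmersion l :=
  (repWith_iff _ l).2 ⟨h1.rep, fun U V g fst snd sq => by
    have a : IsFinite snd.left := ((repWith_iff _ l).1 h1).2 g fst snd sq
    have b : IsOpenImmersion snd.left := ((repWith_iff _ l).1 h2).2 g fst snd sq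
    exact (IsClosedImmersion.iff_isFinite_and_mono _).2 ⟨a, inferInstance⟩⟩

/-- An open immersion into a space separated over `U` whose source is finite over `U` is a closed
immersion. -/
theorem repWith_isClosedImmersion_of_comp_finite {V P U : Sp S} (l : V ⟶ P) (prU : P ⟶ U)
    (hsep : IsSeparatedMor prU) (hfin : RepWith @IsFinite (l ≫ prU))
    (ho : RepWith @IsOpenImmersion l) : RepWith @IsClosedImmersion l := by
  refine repWith_isClosedImmersion_of_finite_of_open ?_ ho
  refine repWith_of_comp_of_diagonal @IsFinite l prU hfin ?_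
  exact repWith_mono (fun _ _ _ h => by
    have : IsClosedImmersion _ := h
    infer_instance) hsep

theorem isFiniteMor_yon_map {U V : Over S} (q : U ⟶ V) (hq : IsFinite q.left) :
    IsFiniteMor ((yon S).map q) :=
  Groth.Agent.Helper2.FinLocFree.isAffQMor_of_repWith @IsFinite (fun _ _ _ h => by
    have : IsFinite _ := h
    infer_instance) ((repWith_yon_map_iff @IsFinite q).2 hq)

end Groth.Agent.Helper2.Lqf
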