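import Mathlib
import Groth.Prelude.Def_AlgSpRep
import Groth.Prelude.Def_AlgSp4
import Groth.Agent.Lib.Helper2.Lqf.BootEt
import Groth.Agent.Lib.Helper2.AlgSp.QFDescent
import Groth.Agent.Lib.Helper2.AlgSp.ImmDescent

/-!
# Representability from a separated locally quasi-finite fppf base change (helper2)
-/

set_option autoImplicit false
universe u
open CategoryTheory CategoryTheory.Limits AlgebraicGeometry Opposite AlgSp
open Groth.Agent.Helper2.AlgSpBasic Groth.Agent.Helper2.EtaleLocal Groth.Agent.Helper2.AlgSpDesc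

namespace Groth.Agent.Helper2.Lqf

variable {S : Scheme.{u}}

instance isSeparated_descendsAlong_fpqc :
    MorphismProperty.DescendsAlong (@IsSeparated : MorphismProperty Scheme.{u})
      (@Surjective ⊓ @Flat ⊓ @QuasiCompact) := by
  rw [AlgebraicGeometry.IsSeparated.isSeparated_eq_diagonal_isClosedImmersion]
  infer_instance

/-- A sheaf over a scheme `T` whose base change along an fppf cover of `T` is an algebraic space
separated and locally quasi-finite over the cover is a scheme, separated and locally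
quasi-finite over `T`. -/
theorem exists_rep_of_bc_sepLqf {H : Sp S} {T T'' : Over S} (b' : H ⟶ (yon S).obj T)
    (c : T'' ⟶ T) (hcf : Flat c.left) (hcs : Surjective c.left)
    (hcl : LocallyOfFinitePresentation c.left) {P'' : Sp S} (pr : P'' ⟶ H)
    (b'' : P'' ⟶ (yon S).obj T'') (sq : IsPullback pr b'' b' ((yon S).map c))
    (hP : IsAlgSpace P'') (hsep : IsSeparatedMor b'')
    (hqf : LocP (@LocallyQuasiFinite ⊓ @LocallyOfFiniteType) b'') :
    ∃ (U : Over S) (k : U ⟶ T) (e : (yon S).obj U ≅ H), e.hom ≫ b' = (yon S).map k ∧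
      IsSeparated k.left ∧ LocallyQuasiFinite k.left ∧ LocallyOfFiniteType k.left := by
  obtain ⟨V, ⟨ε⟩⟩ := exists_iso_yon_of_sep_lqf hP b'' hsep hqf
  obtain ⟨i, hi⟩ := (yon S).map_surjective (ε.hom ≫ b'')
  have sqV : IsPullback (ε.hom ≫ pr) ((yon S).map i) b' ((yon S).map c) := by
    rw [hi]
    exact IsPullback.of_iso sq ε.symm (Iso.refl _) (Iso.refl _) (Iso.refl _) (by simp) (by simp)
      (by simp) (by simp)
  have sqi : IsPullback ε.hom ((yon S).map i) b'' (𝟙 _) :=
    IsPullback.of_horiz_isIso ⟨by rw [Category.comp_id, hi]⟩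
  have hsep_i : IsSeparated i.left := (isSeparatedMor_yon_map_iff i).1
    (repWith_diagonal_of_isPullback @IsClosedImmersion sqi hsep)
  have hqf_i : (@LocallyQuasiFinite ⊓ @LocallyOfFiniteType : MorphismProperty Scheme.{u}) i.left :=
    locP_yon_map (locP_of_isPullback _ hP (IsAlgSpace.yon_obj T'') (IsAlgSpace.yon_obj T'')
      (IsAlgSpace.yon_obj V) b'' (𝟙 _) ε.hom ((yon S).map i) sqi hqf)
  obtain ⟨U, k, q, e, he, hek, -, sqU⟩ := exists_rep_of_fppf_cover c b' (ε.hom ≫ pr) i sqV hcf hcs
    hcl Groth.Agent.Helper2.DescSat.SepLqf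
    (fun D hD => Groth.Agent.Helper2.DescSat.sepLqf_effective c.left hcs hcf hcl D hD)
    ⟨hsep_i, hqf_i.1, hqf_i.2⟩
  have sqL : IsPullback i.left q.left c.left k.left := sqU.map (Over.forget S)
  have hQ : (@Surjective ⊓ @Flat ⊓ @LocallyOfFinitePresentation : MorphismProperty Scheme.{u})
      c.left := ⟨⟨hcs, hcf⟩, hcl⟩
  refine ⟨U, k, asIso e, hek, ?_, ?_, ?_⟩
  · exact MorphismProperty.of_isPullback_of_descendsAlong (P := @IsSeparated)
      (Q := @Surjective ⊓ @Flat ⊓ @LocallyOfFinitePresentation) sqL hQ hsep_i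
  · exact MorphismProperty.of_isPullback_of_descendsAlong (P := @LocallyQuasiFinite)
      (Q := @Surjective ⊓ @Flat ⊓ @LocallyOfFinitePresentation) sqL hQ hqf_i.1
  · exact MorphismProperty.of_isPullback_of_descendsAlong (P := @LocallyOfFiniteType)
      (Q := @Surjective ⊓ @Flat ⊓ @LocallyOfFinitePresentation) sqL hQ hqf_i.2

end Groth.Agent.Helper2.Lqf
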