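import Mathlib
import Groth.Prelude.Def_AlgSpRep
import Groth.Prelude.Def_AlgSp4
import Groth.Agent.Lib.Helper2.Lqf.BcRep

/-!
# Descending representability along an fppf cover representable by algebraic spaces (helper2)
-/

set_option autoImplicit false
universe u
open CategoryTheory CategoryTheory.Limits AlgebraicGeometry Opposite AlgSp
open Groth.Agent.Helper2.AlgSpBasic Groth.Agent.Helper2.EtaleLocal Groth.Agent.Helper2.AlgSpDesc

namespace Groth.Agent.Helper2.Lqf

variable {S : Scheme.{u}}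

theorem etale_le_flat : (@Etale : MorphismProperty Scheme.{u}) ≤ @Flat := by
  intro _ _ _ h
  have : Etale _ := h
  infer_instance

theorem etale_le_lfp : (@Etale : MorphismProperty Scheme.{u}) ≤ @LocallyOfFinitePresentation := by
  intro _ _ _ h
  have : Etale _ := h
  infer_instance

/-- An algebraic space which is surjective, flat and locally of finite presentation over a scheme
`T` admits an fppf cover by a scheme. -/
theorem exists_fppf_chart {Fo : Sp S} (hF : IsAlgSpace Fo) {T : Over S} (g : Fo ⟶ (yon S).obj T)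
    (hgs : IsSurjectiveMor g) (hgf : LocP @Flat g) (hgl : LocP @LocallyOfFinitePresentation g) :
    ∃ (T'' : Over S) (c'' : (yon S).obj T'' ⟶ Fo) (c : T'' ⟶ T), c'' ≫ g = (yon S).map c ∧
      Flat c.left ∧ Surjective c.left ∧ LocallyOfFinitePresentation c.left := by
  obtain ⟨T'', c'', hce, hcs⟩ := hF.atlas
  obtain ⟨c, hc⟩ := (yon S).map_surjective (c'' ≫ g)
  have hT'' := IsAlgSpace.yon_obj (S := S) T''
  have hT := IsAlgSpace.yon_obj (S := S) T
  have hc''e : LocP @Etale c'' := locP_of_repWith @Etale hT''.diag c'' hce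
  refine ⟨T'', c'', c, hc.symm, ?_, ?_, ?_⟩
  · have : LocP @Flat ((yon S).map c) := by
      rw [hc]
      exact locP_comp @Flat hT'' hF hT c'' g (locP_mono etale_le_flat hc''e) hgf
    exact locP_yon_map this
  · apply surjective_of_surjective_points_map
    rw [hc]
    intro y
    obtain ⟨y₁, hy₁⟩ := hgs y
    obtain ⟨y₂, hy₂⟩ := isSurjectiveMor_of_repWith_surjective _ hcs y₁
    exact ⟨y₂, by rw [Points.map_comp, hy₂, hy₁]⟩
  · have : LocP @LocallyOfFinitePresentation ((yon S).map c) := by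
      rw [hc]
      exact locP_comp @LocallyOfFinitePresentation hT'' hF hT c'' g
        (locP_mono etale_le_lfp hc''e) hgl
    exact locP_yon_map this

theorem exists_isPullback_of_bootstrap {E F G H : Sp S} (a : E ⟶ F) (f : E ⟶ H) (g : F ⟶ G)
    (b : H ⟶ G) (sq : IsPullback a f g b)
    (hg : RepBySpWith (IsSurjectiveMor ⊓ LocP @Flat ⊓ LocP @LocallyOfFinitePresentation) g.hom)
    (ha : RepBySpWith
      (IsSeparatedMor ⊓ LocP (@LocallyQuasiFinite ⊓ @LocallyOfFiniteType)) a.hom)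
    {T : Over S} (ξ : (yon S).obj T ⟶ G) :
    ∃ (U : Over S) (fst : (yon S).obj U ⟶ H) (k : U ⟶ T), IsPullback fst ((yon S).map k) b ξ ∧
      IsSeparated k.left ∧ LocallyQuasiFinite k.left ∧ LocallyOfFiniteType k.left := by
  rw [repBySpWith_hom_iff] at hg ha
  have sqH := IsPullback.of_hasPullback b ξ
  have sqF := IsPullback.of_hasPullback g ξ
  obtain ⟨hFT, ⟨⟨hgs, hgf⟩, hgl⟩⟩ := hg ξ _ _ sqF
  obtain ⟨T'', c'', c, hc, hcf, hcs, hcl⟩ := exists_fppf_chart hFT (pullback.snd g ξ) hgs hgf hgl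
  -- the map `η : h_T'' ⟶ F`
  obtain ⟨η, hη⟩ : ∃ η : (yon S).obj T'' ⟶ F, η = c'' ≫ pullback.fst g ξ := ⟨_, rfl⟩
  have hηg : η ≫ g = (yon S).map c ≫ ξ := by
    rw [hη, Category.assoc, sqF.w, ← Category.assoc, hc]
  have sqE := IsPullback.of_hasPullback a η
  obtain ⟨hE, hasep, haqf⟩ := ha η _ _ sqE
  -- the big square
  have sqB : IsPullback (pullback.fst a η ≫ f) (pullback.snd a η) b ((yon S).map c ≫ ξ) := by
    rw [← hηg]
    exact (sqE.flip.paste_vert sq).flip
  obtain ⟨pr, hpr1, hpr2⟩ : ∃ pr : pullback a η ⟶ pullback b ξ,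
      pr ≫ pullback.fst b ξ = pullback.fst a η ≫ f ∧
      pr ≫ pullback.snd b ξ = pullback.snd a η ≫ (yon S).map c :=
    ⟨sqH.lift (pullback.fst a η ≫ f) (pullback.snd a η ≫ (yon S).map c)
      (by rw [Category.assoc, Category.assoc]; exact sqB.w), sqH.lift_fst _ _ _,
      sqH.lift_snd _ _ _⟩
  have sqP : IsPullback pr (pullback.snd a η) (pullback.snd b ξ) ((yon S).map c) := by
    refine IsPullback.of_right ?_ hpr2 sqH
    rw [hpr1]
    exact sqB
  obtain ⟨U, k, e, hek, h1, h2, h3⟩ := exists_rep_of_bc_sepLqf (pullback.snd b ξ) c hcf hcs hcl pr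
    (pullback.snd a η) sqP hE hasep haqf
  refine ⟨U, e.hom ≫ pullback.fst b ξ, k, ?_, h1, h2, h3⟩
  rw [← hek]
  exact IsPullback.of_iso sqH e.symm (Iso.refl _) (Iso.refl _) (Iso.refl _) (by simp) (by simp)
    (by simp) (by simp)

theorem repWith_of_bootstrap {E F G H : Sp S} (a : E ⟶ F) (f : E ⟶ H) (g : F ⟶ G)
    (b : H ⟶ G) (sq : IsPullback a f g b)
    (hg : RepBySpWith (IsSurjectiveMor ⊓ LocP @Flat ⊓ LocP @LocallyOfFinitePresentation) g.hom)
    (ha : RepBySpWith
      (IsSeparatedMor ⊓ LocP (@LocallyQuasiFinite ⊓ @LocallyOfFiniteType)) a.hom) :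
    RepWith @IsSeparated b ∧ RepWith (@LocallyQuasiFinite ⊓ @LocallyOfFiniteType) b := by
  constructor
  · refine MorphismProperty.relative.of_exists fun T ξ => ?_
    obtain ⟨U, fst, k, sqk, h1, -, -⟩ := exists_isPullback_of_bootstrap a f g b sq hg ha ξ
    exact ⟨U, fst, k, sqk, h1⟩
  · refine MorphismProperty.relative.of_exists fun T ξ => ?_
    obtain ⟨U, fst, k, sqk, -, h2, h3⟩ := exists_isPullback_of_bootstrap a f g b sq hg ha ξ
    exact ⟨U, fst, k, sqk, ⟨h2, h3⟩⟩

end Groth.Agent.Helper2.Lqf
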