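import Mathlib
import Groth.Prelude.Def_AlgSpRep
import Groth.Prelude.Def_AlgSp4
import Groth.Agent.Lib.Helper2.Lqf.MonoLqf2
import Groth.Agent.Lib.Helper2.Lqf.Boot98

/-!
# The diagonal of a sheaf with an fppf cover by an algebraic space, representable by algebraic
spaces, is representable (helper2)
-/

set_option autoImplicit false
universe u
open CategoryTheory CategoryTheory.Limits AlgebraicGeometry Opposite AlgSp
open Groth.Agent.Helper2.AlgSpBasic Groth.Agent.Helper2.EtaleLocal Groth.Agent.Helper2.AlgSpDesc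

namespace Groth.Agent.Helper2.Lqf

variable {S : Scheme.{u}}

theorem lfp_le_lft : (@LocallyOfFinitePresentation : MorphismProperty Scheme.{u}) ≤
    @LocallyOfFiniteType := by
  intro _ _ _ h
  have : LocallyOfFinitePresentation _ := h
  infer_instance

/-- The chart of a sheaf with an fppf cover by an algebraic space, representable by algebraic
spaces, is representable by schemes, flat, surjective and locally of finite presentation. -/
theorem exists_fppf_scheme_chart {F X : Sp S} (hX : IsAlgSpace X) (p : X ⟶ F)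
    (hp : RepBySpWith (IsSurjectiveMor ⊓ LocP @Flat ⊓ LocP @LocallyOfFinitePresentation) p.hom) :
    ∃ (U : Over S) (c₀ : (yon S).obj U ⟶ F), Representable c₀ ∧ RepWith @Flat c₀ ∧
      RepWith @LocallyOfFinitePresentation c₀ ∧ RepWith @Surjective c₀ := by
  rw [repBySpWith_hom_iff] at hp
  obtain ⟨U, a, hae, has⟩ := hX.atlas
  have key : ∀ (T : Over S) (ξ : (yon S).obj T ⟶ F), ∃ (W : Over S)
      (w₁ : (yon S).obj W ⟶ (yon S).obj U) (w₂ : W ⟶ T),
      IsPullback w₁ ((yon S).map w₂) (a ≫ p) ξ ∧ Flat w₂.left ∧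
        LocallyOfFinitePresentation w₂.left ∧ Surjective w₂.left := by
    intro T ξ
    have sqP := IsPullback.of_hasPullback p ξ
    obtain ⟨hP, ⟨⟨hPs, hPf⟩, hPl⟩⟩ := hp ξ _ _ sqP
    have sqQ := IsPullback.of_hasPullback a (pullback.fst p ξ)
    have sqB := sqQ.paste_vert sqP
    have hQ : IsAlgSpace (pullback a (pullback.fst p ξ)) :=
      isAlgSpace_of_isPullback hX.diag (IsAlgSpace.yon_obj U) hP a _ _ _ sqQ
    have ha'e : RepWith @Etale (pullback.snd a (pullback.fst p ξ)) :=
      repWith_of_isPullback @Etale sqQ hae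
    have ha's : RepWith @Surjective (pullback.snd a (pullback.fst p ξ)) :=
      repWith_of_isPullback @Surjective sqQ has
    have ha'l : LocP @Etale (pullback.snd a (pullback.fst p ξ)) :=
      locP_of_repWith @Etale hQ.diag _ ha'e
    have h1 : LocP @Flat (pullback.snd a (pullback.fst p ξ) ≫ pullback.snd p ξ) :=
      locP_comp @Flat hQ hP (IsAlgSpace.yon_obj T) _ _ (locP_mono etale_le_flat ha'l) hPf
    have h2 : LocP @LocallyOfFinitePresentation
        (pullback.snd a (pullback.fst p ξ) ≫ pullback.snd p ξ) :=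
      locP_comp @LocallyOfFinitePresentation hQ hP (IsAlgSpace.yon_obj T) _ _
        (locP_mono etale_le_lfp ha'l) hPl
    obtain ⟨W, ⟨e⟩⟩ := exists_iso_yon_of_jointly_mono_lft hQ (pullback.fst a (pullback.fst p ξ))
      (pullback.snd a (pullback.fst p ξ) ≫ pullback.snd p ξ)
      (fun s t h1 h2 => sqB.hom_ext h1 h2) (locP_mono lfp_le_lft h2)
    obtain ⟨w₂, hw₂⟩ := (yon S).map_surjective
      (e.hom ≫ pullback.snd a (pullback.fst p ξ) ≫ pullback.snd p ξ)
    have hW := IsAlgSpace.yon_obj (S := S) W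
    have hT := IsAlgSpace.yon_obj (S := S) T
    refine ⟨W, e.hom ≫ pullback.fst a (pullback.fst p ξ), w₂, ?_, ?_, ?_, ?_⟩
    · rw [hw₂]
      exact IsPullback.of_iso sqB e.symm (Iso.refl _) (Iso.refl _) (Iso.refl _) (by simp)
        (by simp) (by simp) (by simp)
    · have h3 : LocP @Flat ((yon S).map w₂) := by
        rw [hw₂]
        exact locP_comp @Flat hW hQ hT e.hom _ (locP_of_isIso @Flat hQ.diag e.hom) h1
      exact locP_yon_map h3
    · have h3 : LocP @LocallyOfFinitePresentation ((yon S).map w₂) := by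
        rw [hw₂]
        exact locP_comp @LocallyOfFinitePresentation hW hQ hT e.hom _
          (locP_of_isIso @LocallyOfFinitePresentation hQ.diag e.hom) h2
      exact locP_yon_map h3
    · apply surjective_of_surjective_points_map
      rw [hw₂]
      intro y
      obtain ⟨y₁, hy₁⟩ := hPs y
      obtain ⟨y₂, hy₂⟩ := isSurjectiveMor_of_repWith_surjective _ ha's y₁
      refine ⟨Points.map e.inv y₂, ?_⟩
      rw [← Points.map_comp, Iso.inv_hom_id_assoc, Points.map_comp, hy₂, hy₁]
  refine ⟨U, a ≫ p, ?_, ?_, ?_, ?_⟩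
  · intro T ξ
    obtain ⟨W, w₁, w₂, sq, -, -, -⟩ := key T ξ
    exact ⟨W, w₂, w₁, sq⟩
  · refine MorphismProperty.relative.of_exists fun T ξ => ?_
    obtain ⟨W, w₁, w₂, sq, h, -, -⟩ := key T ξ
    exact ⟨W, w₁, w₂, sq, h⟩
  · refine MorphismProperty.relative.of_exists fun T ξ => ?_
    obtain ⟨W, w₁, w₂, sq, -, h, -⟩ := key T ξ
    exact ⟨W, w₁, w₂, sq, h⟩
  · refine MorphismProperty.relative.of_exists fun T ξ => ?_
    obtain ⟨W, w₁, w₂, sq, -, -, h⟩ := key T ξ
    exact ⟨W, w₁, w₂, sq, h⟩

theorem representable_diag_of_fppf_cover {F X : Sp S} (hX : IsAlgSpace X) (p : X ⟶ F)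
    (hp : RepBySpWith (IsSurjectiveMor ⊓ LocP @Flat ⊓ LocP @LocallyOfFinitePresentation) p.hom) :
    Representable (Limits.diag F) := by
  obtain ⟨U, c₀, h1, h2, h3, h4⟩ := exists_fppf_scheme_chart hX p hp
  exact representable_diag_of_chart c₀ h1 h2 h3 h4

end Groth.Agent.Helper2.Lqf
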