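import Mathlib
import Groth.Agent.Lib.Helper2.Lqf.UniqueExt

/-!
# Étale splitting of a quasi-finite algebra at a prime, with trivial residue field extension
(helper2)

Variant of `Lqf/Split.lean` which keeps the residue field of the étale neighbourhood equal to
that of the base prime (instead of making the residue field extension of the upper prime purely
inseparable).
-/

set_option autoImplicit false
universe u
open CategoryTheory CategoryTheory.Limits TensorProduct

namespace Groth.Agent.Helper2.Lqf

/-- The output of the étale localization of a quasi-finite algebra `φ : A → B` at a prime `q`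
over `p`: an étale `A`-algebra `A'` with a prime `P` over `p` with the same residue field, the
pushout `C = A' ⊗ B`, a prime `P'` of `C` over `q` and `P`, and an idempotent `e ∉ P'` with
`C[1/e]` finite over `A'`, such that `P'` is the only prime of `D(e)` over `P`. -/
structure SplitDataB {A B : Type u} [CommRing A] [CommRing B] (φ : A →+* B) (p : Ideal A)
    (q : Ideal B) where
  A' : Type u
  C : Type u
  [instA' : CommRing A']
  [instC : CommRing C]
  g : A →+* A'
  φ' : A' →+* C
  g' : B →+* C
  etale : g.Etale
  po : IsPushout (CommRingCat.ofHom g) (CommRingCat.ofHom φ) (CommRingCat.ofHom φ')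
    (CommRingCat.ofHom g')
  P : Ideal A'
  P' : Ideal C
  [primeP : P.IsPrime]
  [primeP' : P'.IsPrime]
  hP : P.comap g = p
  hP'P : P'.comap φ' = P
  hP'q : P'.comap g' = q
  e : C
  idem : IsIdempotentElem e
  e_notMem : e ∉ P'
  finite : ((algebraMap C (Localization.Away e)).comp φ').Finite
  unique : ∀ P'' : Ideal C, P''.IsPrime → P''.comap φ' = P → e ∉ P'' → P'' = P'
  ue : ∀ (K : Type u) [Field K] (α β : A' →+* K), RingHom.ker α = P → RingHom.ker β = P →
    α.comp g = β.comp g → α = β

attribute [instance] SplitDataB.instA' SplitDataB.instC SplitDataB.primeP SplitDataB.primeP'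

/-- Field valued points at a prime with trivial residue field extension are determined by their
restriction to the base. -/
theorem ue_of_bijective {A A' : Type u} [CommRing A] [CommRing A'] [Algebra A A'] (p : Ideal A)
    [p.IsPrime] (P : Ideal A') [P.IsPrime] [P.LiesOver p]
    (h : Function.Surjective (Ideal.ResidueField.mapₐ p P (Algebra.ofId _ _) (P.over_def p)))
    (K : Type u) [Field K] (α β : A' →+* K) (hα : RingHom.ker α = P) (hβ : RingHom.ker β = P)
    (hαβ : α.comp (algebraMap A A') = β.comp (algebraMap A A')) : α = β := by
  obtain ⟨α', rfl⟩ := exists_residueField_lift P α hα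
  obtain ⟨β', rfl⟩ := exists_residueField_lift P β hβ
  set m := Ideal.ResidueField.mapₐ p P (Algebra.ofId A A') (P.over_def p) with hm
  have hmA : ∀ a : A, m (algebraMap A p.ResidueField a) =
      algebraMap A' P.ResidueField (algebraMap A A' a) := by
    intro a
    rw [AlgHom.commutes]
    exact IsScalarTower.algebraMap_apply A A' P.ResidueField a
  have h1 : α'.comp m.toRingHom = β'.comp m.toRingHom := by
    apply residueField_hom_ext p
    ext a
    have := congrArg (fun f : A →+* K => f a) hαβ
    simp only [RingHom.comp_apply] at this ⊢
    change α' (m (algebraMap A p.ResidueField a)) = β' (m (algebraMap A p.ResidueField a))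
    rw [hmA]
    exact this
  have h2 : α' = β' := by
    refine RingHom.ext fun z => ?_
    obtain ⟨w, rfl⟩ := h z
    exact congrArg (fun f : p.ResidueField →+* K => f w) h1
  rw [h2]

theorem nonempty_splitDataB {A B : Type u} [CommRing A] [CommRing B] [Algebra A B]
    [Algebra.FiniteType A B] (p : Ideal A) [p.IsPrime] (q : Ideal B) [q.IsPrime] [q.LiesOver p]
    [Algebra.QuasiFiniteAt A q] : Nonempty (SplitDataB (algebraMap A B) p q) := by
  obtain ⟨A', _, _, _, P, _, _, e, he, P', _, _, hP'q, heP', hpP, hfin, huniq⟩ :=
    Algebra.exists_etale_isIdempotentElem_forall_liesOver_eq p q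
  refine ⟨{
    A' := A'
    C := A' ⊗[A] B
    g := algebraMap A A'
    φ' := Algebra.TensorProduct.includeLeftRingHom
    g' := Algebra.TensorProduct.includeRight.toRingHom
    etale := RingHom.etale_algebraMap.mpr inferInstance
    po := CommRingCat.isPushout_tensorProduct A A' B
    P := P
    P' := P'
    hP := (P.over_def p).symm
    hP'P := (P'.over_def P).symm
    hP'q := hP'q
    e := e
    idem := he
    e_notMem := heP'
    finite := ?_
    unique := ?_
    ue := ?_ }⟩
  · have : ((algebraMap (A' ⊗[A] B) (Localization.Away e)).comp
        Algebra.TensorProduct.includeLeftRingHom) = algebraMap A' (Localization.Away e) := by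
      ext a
      simp [IsScalarTower.algebraMap_apply A' (A' ⊗[A] B) (Localization.Away e)]
    rw [this]
    exact RingHom.finite_algebraMap.mpr hfin
  · intro P'' hP'' h1 h2
    exact huniq P'' hP'' ⟨h1.symm⟩ h2
  · intro K _ α β hα hβ hαβ
    exact ue_of_bijective p P hpP.2 K α β hα hβ hαβ

end Groth.Agent.Helper2.Lqf
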