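import Mathlib
import Groth.Agent.Lib.Helper2.Lqf.SplitB

/-!
# Étale localization of a quasi-finite morphism of schemes at a point, with trivial residue
field extension on the base (helper2)
-/

set_option autoImplicit false
universe u
open CategoryTheory CategoryTheory.Limits AlgebraicGeometry

namespace Groth.Agent.Helper2.Lqf

/-- Field valued points of `T'` at `t'` are determined by their image in `T` (the residue field
extension of `g` at `t'` is trivial, or at least an epimorphism). -/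
def UEAt {T' T : Scheme.{u}} (g : T' ⟶ T) (t' : T') : Prop :=
  ∀ (K : Type u) [Field K] (α β : Spec (.of K) ⟶ T'), (∀ z, α z = t') → (∀ z, β z = t') →
    α ≫ g = β ≫ g → α = β

theorem UEAt.comp {T'' T' T : Scheme.{u}} {g' : T'' ⟶ T'} {g : T' ⟶ T} {t'' : T''}
    (h' : UEAt g' t'') (h : UEAt g (g' t'')) : UEAt (g' ≫ g) t'' := by
  intro K _ α β hα hβ hαβ
  apply h' K α β hα hβ
  apply h K (α ≫ g') (β ≫ g')
  · intro z
    rw [Scheme.Hom.comp_apply, hα]
  · intro z
    rw [Scheme.Hom.comp_apply, hβ]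
  · rw [Category.assoc, Category.assoc, hαβ]

theorem UEAt.id {T : Scheme.{u}} (t : T) : UEAt (𝟙 T) t := by
  intro K _ α β _ _ hαβ
  simpa using hαβ

/-- Étale localization of `k : U ⟶ T` at a point `u` where it is quasi-finite, with trivial
residue field extension on the base. -/
structure SchSplitB {U T : Scheme.{u}} (k : U ⟶ T) (u : U) where
  T' : Scheme.{u}
  g : T' ⟶ T
  V : Scheme.{u}
  a : V ⟶ U
  q : V ⟶ T'
  w : a ≫ k = q ≫ g
  v : V
  affine : IsAffine T'
  etale : Etale g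
  openImm : IsOpenImmersion (pullback.lift a q w)
  finite : IsFinite q
  hv : a v = u
  unique : ∀ v' : V, q v' = q v → v' = v
  ue : UEAt g (q v)

set_option backward.isDefEq.respectTransparency false in
theorem nonempty_schSplitB {U T : Scheme.{u}} (k : U ⟶ T) [LocallyOfFiniteType k] (u : U)
    (hu : k.QuasiFiniteAt u) : Nonempty (SchSplitB k u) := by
  obtain ⟨_, ⟨T₀, hT₀, rfl⟩, huT, -⟩ := T.isBasis_affineOpens.exists_subset_of_mem_open
    (Set.mem_univ (k u)) isOpen_univ
  obtain ⟨_, ⟨U₀, hU₀, rfl⟩, huU, hUT : U₀ ≤ k ⁻¹ᵁ T₀⟩ :=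
    U.isBasis_affineOpens.exists_subset_of_mem_open huT (k ⁻¹ᵁ T₀).2
  have : (k.appLE T₀ U₀ hUT).hom.FiniteType := k.finiteType_appLE hT₀ hU₀ hUT
  algebraize [(k.appLE T₀ U₀ hUT).hom]
  have : (hU₀.primeIdealOf ⟨u, huU⟩).asIdeal.LiesOver (hT₀.primeIdealOf ⟨k u, huT⟩).asIdeal := by
    suffices hT₀.primeIdealOf ⟨k u, huT⟩ =
        Spec.map (k.appLE T₀ U₀ hUT) (hU₀.primeIdealOf ⟨u, huU⟩) from ⟨congr(($this).1)⟩
    apply hT₀.isoSpec.inv.homeomorph.injective
    apply Subtype.ext
    simp only [IsAffineOpen.primeIdealOf, Scheme.Hom.homeomorph_apply,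
      ← Scheme.Hom.comp_apply, ← Scheme.Opens.ι_apply, IsAffineOpen.isoSpec_hom]
    simp
  have : Algebra.QuasiFiniteAt Γ(T, T₀) (hU₀.primeIdealOf ⟨u, huU⟩).asIdeal :=
    hu.quasiFiniteAt hU₀ hT₀ hUT huU
  obtain ⟨D⟩ := nonempty_splitDataB (hT₀.primeIdealOf ⟨k u, huT⟩).asIdeal
    (hU₀.primeIdealOf ⟨u, huU⟩).asIdeal
  -- names
  obtain ⟨φ, hφ⟩ : ∃ φ : Γ(T, T₀) ⟶ Γ(U, U₀), φ = k.appLE T₀ U₀ hUT := ⟨_, rfl⟩
  obtain ⟨ψ, hψ⟩ : ∃ ψ : Γ(T, T₀) ⟶ CommRingCat.of D.A', ψ = CommRingCat.ofHom D.g := ⟨_, rfl⟩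
  obtain ⟨φ', hφ'⟩ : ∃ φ' : CommRingCat.of D.A' ⟶ CommRingCat.of D.C,
    φ' = CommRingCat.ofHom D.φ' := ⟨_, rfl⟩
  obtain ⟨ψ', hψ'⟩ : ∃ ψ' : Γ(U, U₀) ⟶ CommRingCat.of D.C, ψ' = CommRingCat.ofHom D.g' :=
    ⟨_, rfl⟩
  obtain ⟨l, hl⟩ : ∃ l : CommRingCat.of D.C ⟶ CommRingCat.of (Localization.Away D.e),
    l = CommRingCat.ofHom (algebraMap D.C (Localization.Away D.e)) := ⟨_, rfl⟩
  have hpo : IsPushout ψ φ φ' ψ' := by
    rw [hψ, hφ, hφ', hψ']
    exact D.po
  have pbS : IsPullback (Spec.map φ') (Spec.map ψ') (Spec.map ψ) (Spec.map φ) :=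
    isPullback_SpecMap_of_isPushout _ _ _ _ hpo
  have hφk : Spec.map φ ≫ hT₀.fromSpec = hU₀.fromSpec ≫ k := by
    rw [hφ]
    exact IsAffineOpen.SpecMap_appLE_fromSpec k hT₀ hU₀ hUT
  have : IsOpenImmersion (Spec.map l) := by
    rw [hl]
    infer_instance
  have hψet : Etale (Spec.map ψ) := by
    rw [HasRingHomProperty.Spec_iff (P := @Etale), hψ]
    exact D.etale
  -- the maps
  obtain ⟨g, hg⟩ : ∃ g : Spec (CommRingCat.of D.A') ⟶ T, g = Spec.map ψ ≫ hT₀.fromSpec :=
    ⟨_, rfl⟩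
  obtain ⟨c, hc⟩ : ∃ c : Spec (CommRingCat.of D.C) ⟶ U, c = Spec.map ψ' ≫ hU₀.fromSpec :=
    ⟨_, rfl⟩
  have wc : c ≫ k = Spec.map φ' ≫ g := by
    rw [hc, hg, Category.assoc, ← hφk, ← Category.assoc, ← Category.assoc, pbS.w]
  -- the comparison map is an open immersion
  have hγ : IsOpenImmersion (pullback.lift c (Spec.map φ') wc) := by
    have e₂ : Spec.map ψ ≫ hT₀.fromSpec = 𝟙 _ ≫ g := by rw [Category.id_comp, hg]
    have : pullback.lift c (Spec.map φ') wc = pbS.flip.isoPullback.hom ≫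
        pullback.map (Spec.map φ) (Spec.map ψ) k g hU₀.fromSpec (𝟙 _) hT₀.fromSpec hφk e₂ := by
      apply pullback.hom_ext
      · rw [pullback.lift_fst, Category.assoc, pullback.lift_fst, ← Category.assoc,
          IsPullback.isoPullback_hom_fst, hc]
      · rw [pullback.lift_snd, Category.assoc, pullback.lift_snd, Category.comp_id,
          IsPullback.isoPullback_hom_snd]
    rw [this]
    infer_instance
  -- the point
  have hmem : (⟨D.P', inferInstance⟩ : PrimeSpectrum D.C) ∈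
      Set.range (PrimeSpectrum.comap (algebraMap D.C (Localization.Away D.e))) := by
    rw [PrimeSpectrum.localization_away_comap_range (Localization.Away D.e) D.e]
    exact D.e_notMem
  obtain ⟨v, hv⟩ := hmem
  have hlv : Spec.map l v = ⟨D.P', inferInstance⟩ := by
    rw [hl]
    exact hv
  have hrange : ∀ v' : Spec (CommRingCat.of (Localization.Away D.e)),
      D.e ∉ (Spec.map l v').asIdeal := by
    intro v'
    have : Spec.map l v' ∈
        Set.range (PrimeSpectrum.comap (algebraMap D.C (Localization.Away D.e))) := by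
      rw [hl]
      exact ⟨v', rfl⟩
    rw [PrimeSpectrum.localization_away_comap_range (Localization.Away D.e) D.e] at this
    exact this
  have hlinj : Function.Injective (Spec.map l) := (Spec.map l).isOpenEmbedding.injective
  have hqv : Spec.map φ' (Spec.map l v) = ⟨D.P, inferInstance⟩ := by
    rw [hlv, hφ']
    exact PrimeSpectrum.ext D.hP'P
  refine ⟨{
    T' := Spec (CommRingCat.of D.A')
    g := g
    V := Spec (CommRingCat.of (Localization.Away D.e))
    a := Spec.map l ≫ c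
    q := Spec.map l ≫ Spec.map φ'
    w := by rw [Category.assoc, wc, Category.assoc]
    v := v
    affine := inferInstance
    etale := by rw [hg]; infer_instance
    openImm := ?_
    finite := ?_
    hv := ?_
    unique := ?_
    ue := ?_ }⟩
  · have : pullback.lift (Spec.map l ≫ c) (Spec.map l ≫ Spec.map φ')
        (by rw [Category.assoc, wc, Category.assoc]) =
        Spec.map l ≫ pullback.lift c (Spec.map φ') wc := by
      apply pullback.hom_ext
      · rw [pullback.lift_fst, Category.assoc, pullback.lift_fst]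
      · rw [pullback.lift_snd, Category.assoc, pullback.lift_snd]
    rw [this]
    infer_instance
  · rw [← Spec.map_comp, IsFinite.SpecMap_iff, hφ', hl]
    exact D.finite
  · rw [Scheme.Hom.comp_apply, hlv, hc, Scheme.Hom.comp_apply]
    have : Spec.map ψ' ⟨D.P', inferInstance⟩ = hU₀.primeIdealOf ⟨u, huU⟩ := by
      rw [hψ']
      exact PrimeSpectrum.ext D.hP'q
    rw [this]
    exact hU₀.fromSpec_primeIdealOf ⟨u, huU⟩
  · intro v' hv'
    apply hlinj
    rw [hlv]
    rw [Scheme.Hom.comp_apply, Scheme.Hom.comp_apply, hlv] at hv'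
    have h1 : (Spec.map l v').asIdeal.comap D.φ' = D.P := by
      have := congrArg PrimeSpectrum.asIdeal hv'
      rw [hφ'] at this
      exact this.trans D.hP'P
    exact PrimeSpectrum.ext (D.unique _ (Spec.map l v').isPrime h1 (hrange v'))
  · intro K _ x y hx hy hxy
    obtain ⟨ξ, rfl⟩ := Spec.map_surjective x
    obtain ⟨η, rfl⟩ := Spec.map_surjective y
    have key : ∀ ζ : CommRingCat.of D.A' ⟶ CommRingCat.of K,
        (∀ z, Spec.map ζ z = (Spec.map l ≫ Spec.map φ') v) → RingHom.ker ζ.hom = D.P := by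
      intro ζ hζ
      have h1 := hζ ⟨⊥, Ideal.isPrime_bot⟩
      rw [Scheme.Hom.comp_apply, hqv] at h1
      have h3 := congrArg PrimeSpectrum.asIdeal h1
      rw [RingHom.ker_eq_comap_bot]
      exact h3
    have h4 : ξ.hom.comp D.g = η.hom.comp D.g := by
      have h := hxy
      rw [hg, ← Category.assoc, ← Category.assoc, cancel_mono] at h
      simp only [← Spec.map_comp] at h
      have h' := Spec.map_injective h
      rw [hψ] at h'
      exact congrArg CommRingCat.Hom.hom h'
    have h5 := D.ue K _ _ (key ξ hx) (key η hy) h4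
    rw [CommRingCat.hom_ext h5]

end Groth.Agent.Helper2.Lqf
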