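import Mathlib
import Groth.Agent.Lib.Helper2.Lqf.SchSplitB

/-!
# Étale localization of a separated quasi-finite morphism of schemes at finitely many points of a
fibre (helper2)
-/

set_option autoImplicit false
universe u
open CategoryTheory CategoryTheory.Limits AlgebraicGeometry

namespace Groth.Agent.Helper2.Lqf

/-- If field valued points of `U` at `u` are determined by their image in `T`, then for every base
change the projection to the other factor is injective on the fibre over `u`. -/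
theorem fibInj_of_ueAt {U T : Scheme.{u}} {g : U ⟶ T} {u : U} (h : UEAt g u)
    {X' P : Scheme.{u}} {f' : X' ⟶ T} {p₁ : P ⟶ X'} {p₂ : P ⟶ U} (sq : IsPullback p₁ p₂ f' g)
    (z z' : P) (hz : p₂ z = u) (hz' : p₂ z' = u) (hzz' : p₁ z = p₁ z') : z = z' := by
  obtain ⟨a, ha⟩ : ∃ a : Spec (P.residueField z) ⟶ X', a = P.fromSpecResidueField z ≫ p₁ :=
    ⟨_, rfl⟩
  obtain ⟨a', ha'⟩ : ∃ a' : Spec (P.residueField z') ⟶ X', a' = P.fromSpecResidueField z' ≫ p₁ :=
    ⟨_, rfl⟩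
  obtain ⟨s⟩ : Nonempty ↥(Spec (P.residueField z)) := inferInstance
  obtain ⟨s'⟩ : Nonempty ↥(Spec (P.residueField z')) := inferInstance
  have hs : a s = a' s' := by
    rw [ha, ha', Scheme.Hom.comp_apply, Scheme.Hom.comp_apply,
      Scheme.fromSpecResidueField_apply, Scheme.fromSpecResidueField_apply, hzz']
  obtain ⟨w, -, -⟩ := Scheme.Pullback.exists_preimage_pullback s s' hs
  obtain ⟨ω, hω⟩ : ∃ ω : Spec ((pullback a a').residueField w) ⟶ pullback a a',
    ω = (pullback a a').fromSpecResidueField w := ⟨_, rfl⟩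
  obtain ⟨ζ, hζ⟩ : ∃ ζ : Spec ((pullback a a').residueField w) ⟶ P,
    ζ = ω ≫ pullback.fst a a' ≫ P.fromSpecResidueField z := ⟨_, rfl⟩
  obtain ⟨ζ', hζ'⟩ : ∃ ζ' : Spec ((pullback a a').residueField w) ⟶ P,
    ζ' = ω ≫ pullback.snd a a' ≫ P.fromSpecResidueField z' := ⟨_, rfl⟩
  have h1 : ζ ≫ p₁ = ζ' ≫ p₁ := by
    rw [hζ, hζ', Category.assoc, Category.assoc, Category.assoc, Category.assoc, ← ha, ← ha',
      pullback.condition]
  have hζz : ∀ c, ζ c = z := by
    intro c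
    rw [hζ, Scheme.Hom.comp_apply, Scheme.Hom.comp_apply, Scheme.fromSpecResidueField_apply]
  have hζz' : ∀ c, ζ' c = z' := by
    intro c
    rw [hζ', Scheme.Hom.comp_apply, Scheme.Hom.comp_apply, Scheme.fromSpecResidueField_apply]
  have h2 : ζ ≫ p₂ = ζ' ≫ p₂ := by
    refine h ((pullback a a').residueField w) (ζ ≫ p₂) (ζ' ≫ p₂) ?_ ?_ ?_
    · intro c
      rw [Scheme.Hom.comp_apply, hζz, hz]
    · intro c
      rw [Scheme.Hom.comp_apply, hζz', hz']
    · rw [Category.assoc, Category.assoc, ← sq.w, ← Category.assoc, ← Category.assoc, h1]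
  have h3 : ζ = ζ' := sq.hom_ext h1 h2
  obtain ⟨c⟩ : Nonempty ↥(Spec ((pullback a a').residueField w)) := inferInstance
  calc z = ζ c := (hζz c).symm
    _ = ζ' c := by rw [h3]
    _ = z' := hζz' c

/-- The union of two open subschemes which are finite over the base is finite over the base. -/
theorem isFinite_sup {P U : Scheme.{u}} (s : P ⟶ U) [IsSeparated s] [LocallyOfFiniteType s]
    [LocallyQuasiFinite s] (V₁ V₂ : P.Opens) (h₁ : IsFinite (V₁.ι ≫ s))
    (h₂ : IsFinite (V₂.ι ≫ s)) : IsFinite ((V₁ ⊔ V₂).ι ≫ s) := by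
  obtain ⟨c, hc⟩ : ∃ c : (V₁ : Scheme.{u}) ⨿ (V₂ : Scheme.{u}) ⟶ ((V₁ ⊔ V₂ : P.Opens) : Scheme.{u}),
    c = coprod.desc (P.homOfLE le_sup_left) (P.homOfLE le_sup_right) := ⟨_, rfl⟩
  have hcs : c ≫ (V₁ ⊔ V₂).ι ≫ s = coprod.desc (V₁.ι ≫ s) (V₂.ι ≫ s) := by
    rw [hc]
    apply coprod.hom_ext
    · rw [coprod.inl_desc, ← Category.assoc, coprod.inl_desc, ← Category.assoc,
        Scheme.homOfLE_ι]
    · rw [coprod.inr_desc, ← Category.assoc, coprod.inr_desc, ← Category.assoc,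
        Scheme.homOfLE_ι]
  have : Surjective c := by
    refine ⟨fun x => ?_⟩
    have hx : x.1 ∈ (V₁ : Set P) ∪ (V₂ : Set P) := by
      have := x.2
      rwa [← TopologicalSpace.Opens.coe_sup]
    rcases hx with hx | hx
    · refine ⟨(coprod.inl : (V₁ : Scheme.{u}) ⟶ (V₁ : Scheme.{u}) ⨿ (V₂ : Scheme.{u})) ⟨x.1, hx⟩, ?_⟩
      rw [← Scheme.Hom.comp_apply, hc, coprod.inl_desc]
      exact Subtype.ext (Scheme.homOfLE_apply _ _)
    · refine ⟨(coprod.inr : (V₂ : Scheme.{u}) ⟶ (V₁ : Scheme.{u}) ⨿ (V₂ : Scheme.{u})) ⟨x.1, hx⟩, ?_⟩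
      rw [← Scheme.Hom.comp_apply, hc, coprod.inr_desc]
      exact Subtype.ext (Scheme.homOfLE_apply _ _)
  have : IsFinite (c ≫ (V₁ ⊔ V₂).ι ≫ s) := by
    rw [hcs]
    infer_instance
  have : UniversallyClosed ((V₁ ⊔ V₂).ι ≫ s) := UniversallyClosed.of_comp_surjective c _
  have : IsProper ((V₁ ⊔ V₂).ι ≫ s) := {}
  exact IsFinite.of_isProper_of_locallyQuasiFinite _

/-- One point étale splitting, in terms of open subschemes of the fibre product. -/
theorem exists_onePt {X T : Scheme.{u}} (f : X ⟶ T) [IsSeparated f] [LocallyOfFiniteType f]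
    (x : X) (hx : f.QuasiFiniteAt x) :
    ∃ (U : Scheme.{u}) (g : U ⟶ T) (u : U), Etale g ∧ g u = f x ∧ UEAt g u ∧
      ∃ V : (pullback f g).Opens, IsClosed (V : Set ↥(pullback f g)) ∧
        IsFinite (V.ι ≫ pullback.snd f g) ∧
        ∃ v ∈ V, pullback.fst f g v = x ∧ pullback.snd f g v = u ∧
          ∀ z ∈ V, pullback.snd f g z = u → z = v := by
  obtain ⟨D⟩ := nonempty_schSplitB f x hx
  have := D.openImm
  have := D.etale
  obtain ⟨m, hm⟩ : ∃ m : D.V ⟶ pullback f D.g, m = pullback.lift D.a D.q D.w := ⟨_, rfl⟩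
  have hmo : IsOpenImmersion m := by rw [hm]; infer_instance
  have hm1 : m ≫ pullback.fst f D.g = D.a := by rw [hm, pullback.lift_fst]
  have hm2 : m ≫ pullback.snd f D.g = D.q := by rw [hm, pullback.lift_snd]
  have hfin : IsFinite (m ≫ pullback.snd f D.g) := by rw [hm2]; exact D.finite
  have hmf : IsFinite m := IsFinite.of_comp m (pullback.snd f D.g)
  refine ⟨D.T', D.g, D.q D.v, D.etale, ?_, D.ue, m.opensRange, ?_, ?_, m D.v, ⟨D.v, rfl⟩, ?_, ?_,
    ?_⟩
  · rw [← Scheme.Hom.comp_apply, ← D.w, Scheme.Hom.comp_apply, D.hv]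
  · rw [Scheme.Hom.coe_opensRange]
    exact m.isClosedMap.isClosed_range
  · rw [← MorphismProperty.cancel_left_of_respectsIso @IsFinite m.isoOpensRange.hom,
      ← Category.assoc, Scheme.Hom.isoOpensRange_hom_ι]
    exact hfin
  · rw [← Scheme.Hom.comp_apply, hm1, D.hv]
  · rw [← Scheme.Hom.comp_apply, hm2]
  · rintro _ ⟨v', rfl⟩ hv'
    rw [← Scheme.Hom.comp_apply, hm2] at hv'
    rw [D.unique v' hv']

/-- **Étale localization at finitely many points of a fibre** of a separated locally quasi-finite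
morphism of schemes. -/
theorem exists_multiSplit_aux (n : ℕ) : ∀ {X T : Scheme.{u}} (f : X ⟶ T) [IsSeparated f]
    [LocallyOfFiniteType f] [LocallyQuasiFinite f] (t : T) (xs : Finset X), xs.card ≤ n →
    (∀ x ∈ xs, f x = t) →
    ∃ (U : Scheme.{u}) (g : U ⟶ T) (u : U), Etale g ∧ g u = t ∧ UEAt g u ∧
      ∀ (P : Scheme.{u}) (p₁ : P ⟶ X) (p₂ : P ⟶ U), IsPullback p₁ p₂ f g →
        ∃ V : P.Opens, IsClosed (V : Set P) ∧ IsFinite (V.ι ≫ p₂) ∧
          ∀ z : P, p₂ z = u → (z ∈ V ↔ p₁ z ∈ xs) := by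
  classical
  have hempty : ∀ {X T : Scheme.{u}} (f : X ⟶ T) (t : T),
      ∃ (U : Scheme.{u}) (g : U ⟶ T) (u : U), Etale g ∧ g u = t ∧ UEAt g u ∧
      ∀ (P : Scheme.{u}) (p₁ : P ⟶ X) (p₂ : P ⟶ U), IsPullback p₁ p₂ f g →
        ∃ V : P.Opens, IsClosed (V : Set P) ∧ IsFinite (V.ι ≫ p₂) ∧
          ∀ z : P, p₂ z = u → (z ∈ V ↔ p₁ z ∈ (∅ : Finset X)) := by
    intro X T f t
    refine ⟨T, 𝟙 T, t, inferInstance, rfl, UEAt.id t, fun P p₁ p₂ _ => ⟨⊥, ?_, ?_, ?_⟩⟩
    · simp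
    · have : IsEmpty ↥((⊥ : P.Opens) : Scheme.{u}) := ⟨fun z => z.2⟩
      infer_instance
    · intro z _
      simp
  induction n with
  | zero =>
    intro X T f _ _ _ t xs hc _
    obtain rfl : xs = ∅ := Finset.card_eq_zero.mp (Nat.le_zero.mp hc)
    exact hempty f t
  | succ n ih =>
    intro X T f _ _ _ t xs hc hxs
    rcases xs.eq_empty_or_nonempty with rfl | ⟨x, hx⟩
    · exact hempty f t
    obtain ⟨U₁, g₁, u₁, hg₁, hgu₁, hue₁, V₁, hV₁c, hV₁f, v₁, hv₁V, hv₁x, hv₁u, hV₁u⟩ :=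
      exists_onePt f x (Scheme.Hom.quasiFiniteAt f x)
    have sq₁ : IsPullback (pullback.fst f g₁) (pullback.snd f g₁) f g₁ :=
      IsPullback.of_hasPullback f g₁
    -- the remaining points
    obtain ⟨S₁, hS₁⟩ : ∃ S₁ : Set ↥(pullback f g₁),
      S₁ = {z | pullback.snd f g₁ z = u₁ ∧ pullback.fst f g₁ z ∈ xs.erase x} := ⟨_, rfl⟩
    have hinj : Set.InjOn (pullback.fst f g₁) S₁ := by
      intro z hz z' hz' hzz'
      rw [hS₁] at hz hz'
      exact fibInj_of_ueAt hue₁ sq₁ z z' hz.1 hz'.1 hzz'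
    have hmaps : Set.MapsTo (pullback.fst f g₁) S₁ (↑(xs.erase x) : Set X) := by
      intro z hz
      rw [hS₁] at hz
      exact hz.2
    have hS₁fin : S₁.Finite := Set.Finite.of_injOn hmaps hinj (Finset.finite_toSet _)
    have hcard : hS₁fin.toFinset.card ≤ n := by
      have h1 : hS₁fin.toFinset.card ≤ (xs.erase x).card := by
        refine Finset.card_le_card_of_injOn (pullback.fst f g₁) ?_ ?_
        · intro z hz
          exact hmaps (by simpa using hz)
        · intro z hz z' hz' hzz'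
          exact hinj (by simpa using hz) (by simpa using hz') hzz'
      rw [Finset.card_erase_of_mem hx] at h1
      omega
    have hS₁t : ∀ z ∈ hS₁fin.toFinset, pullback.snd f g₁ z = u₁ := by
      intro z hz
      have : z ∈ S₁ := by simpa using hz
      rw [hS₁] at this
      exact this.1
    obtain ⟨U₂, g₂, u₂, hg₂, hgu₂, hue₂, H₂⟩ :=
      ih (pullback.snd f g₁) u₁ hS₁fin.toFinset hcard hS₁t
    have hgu : (g₂ ≫ g₁) u₂ = t := by
      rw [Scheme.Hom.comp_apply, hgu₂, hgu₁]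
      exact hxs x hx
    refine ⟨U₂, g₂ ≫ g₁, u₂, inferInstance, hgu, UEAt.comp hue₂ (hgu₂ ▸ hue₁), ?_⟩
    intro P p₁ p₂ sq
    obtain ⟨ℓ, hℓ1, hℓ2⟩ : ∃ ℓ : P ⟶ pullback f g₁, ℓ ≫ pullback.fst f g₁ = p₁ ∧
        ℓ ≫ pullback.snd f g₁ = p₂ ≫ g₂ :=
      ⟨pullback.lift p₁ (p₂ ≫ g₂) (by rw [sq.w, Category.assoc]), pullback.lift_fst _ _ _,
        pullback.lift_snd _ _ _⟩
    have sqL : IsPullback ℓ p₂ (pullback.snd f g₁) g₂ := by
      refine IsPullback.of_right ?_ hℓ2 sq₁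
      rw [hℓ1]
      exact sq
    obtain ⟨V₂, hV₂c, hV₂f, hV₂u⟩ := H₂ P ℓ p₂ sqL
    have : IsSeparated p₂ := MorphismProperty.of_isPullback (P := @IsSeparated) sq inferInstance
    have : LocallyOfFiniteType p₂ :=
      MorphismProperty.of_isPullback (P := @LocallyOfFiniteType) sq inferInstance
    have : LocallyQuasiFinite p₂ :=
      MorphismProperty.of_isPullback (P := @LocallyQuasiFinite) sq inferInstance
    have hV₁'f : IsFinite ((ℓ ⁻¹ᵁ V₁).ι ≫ p₂) :=
      MorphismProperty.of_isPullback (P := @IsFinite)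
        ((isPullback_morphismRestrict ℓ V₁).paste_vert sqL) hV₁f
    refine ⟨V₂ ⊔ ℓ ⁻¹ᵁ V₁, ?_, isFinite_sup p₂ V₂ (ℓ ⁻¹ᵁ V₁) hV₂f hV₁'f, ?_⟩
    · rw [TopologicalSpace.Opens.coe_sup]
      exact hV₂c.union (hV₁c.preimage ℓ.continuous)
    · intro z hz
      have hsnd : pullback.snd f g₁ (ℓ z) = u₁ := by
        rw [← Scheme.Hom.comp_apply, hℓ2, Scheme.Hom.comp_apply, hz, hgu₂]
      have hfst : pullback.fst f g₁ (ℓ z) = p₁ z := by
        rw [← Scheme.Hom.comp_apply, hℓ1]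
      have hmemS : ℓ z ∈ hS₁fin.toFinset ↔ p₁ z ∈ xs.erase x := by
        rw [Set.Finite.mem_toFinset, hS₁]
        constructor
        · rintro ⟨-, h2⟩
          rwa [hfst] at h2
        · intro h2
          exact ⟨hsnd, by rwa [hfst]⟩
      constructor
      · rintro (hzV | hzV)
        · have := ((hV₂u z hz).1 hzV)
          rw [hmemS] at this
          exact Finset.mem_of_mem_erase this
        · have h1 : ℓ z = v₁ := hV₁u (ℓ z) hzV hsnd
          have h2 : p₁ z = x := by rw [← hfst, h1, hv₁x]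
          rw [h2]
          exact hx
      · intro hzx
        by_cases h : p₁ z = x
        · right
          have h1 : ℓ z = v₁ :=
            fibInj_of_ueAt hue₁ sq₁ (ℓ z) v₁ hsnd hv₁u (by rw [hfst, h, hv₁x])
          change ℓ z ∈ V₁
          rw [h1]
          exact hv₁V
        · left
          exact (hV₂u z hz).2 (hmemS.2 (Finset.mem_erase.2 ⟨h, hzx⟩))

theorem exists_multiSplit {X T : Scheme.{u}} (f : X ⟶ T) [IsSeparated f]
    [LocallyOfFiniteType f] [LocallyQuasiFinite f] (t : T) (xs : Finset X)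
    (hxs : ∀ x ∈ xs, f x = t) :
    ∃ (U : Scheme.{u}) (g : U ⟶ T) (u : U), Etale g ∧ g u = t ∧
      ∀ (P : Scheme.{u}) (p₁ : P ⟶ X) (p₂ : P ⟶ U), IsPullback p₁ p₂ f g →
        ∃ V : P.Opens, IsClosed (V : Set P) ∧ IsFinite (V.ι ≫ p₂) ∧
          ∀ z : P, p₂ z = u → (z ∈ V ↔ p₁ z ∈ xs) := by
  obtain ⟨U, g, u, h1, h2, -, h3⟩ := exists_multiSplit_aux xs.card f t xs le_rfl hxs
  exact ⟨U, g, u, h1, h2, h3⟩

end Groth.Agent.Helper2.Lqf
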