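import Mathlib
import Groth.Prelude.Def_AlgSp4
import Groth.Prelude.Def_AlgSpDec
import Groth.Agent.Lib.Helper2.Lqf.EtSplit
import Groth.Agent.Lib.Helper2.Lqf.MultiSplit
import Groth.Agent.Lib.Helper2.AlgSp.QfFibreProd
import Groth.Agent.Lib.Helper2.AlgSp.FibreProdFiniteB

/-!
# Étale localization of a morphism of algebraic spaces at finitely many quasi-finite points of a
fibre (helper2)
-/

set_option autoImplicit false
universe u
open CategoryTheory CategoryTheory.Limits AlgebraicGeometry Opposite AlgSp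
open Groth.Agent.Helper2.AlgSpBasic Groth.Agent.Helper2.EtaleLocal
open Groth.Agent.Helper2.QfAtSp

namespace Groth.Agent.Helper2.Lqf

variable {S : Scheme.{u}}

/-- Scheme-level étale splitting at finitely many points of a fibre, packaged over `S`. -/
theorem exists_over_multiSplit {W0 T : Over S} (k0 : W0 ⟶ T) [IsSeparated k0.left]
    [LocallyOfFiniteType k0.left] [LocallyQuasiFinite k0.left] (t : T.left)
    (zs : Finset W0.left) (hzs : ∀ z ∈ zs, k0.left z = t) :
    ∃ (T' Q V0 : Over S) (g : T' ⟶ T) (u : T'.left) (pW : Q ⟶ W0) (pT : Q ⟶ T') (m : V0 ⟶ Q),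
      Etale g.left ∧ g.left u = t ∧ IsPullback pW pT k0 g ∧ IsOpenImmersion m.left ∧
      IsFinite (m ≫ pT).left ∧
      ∀ z : Q.left, pT.left z = u → (z ∈ Set.range m.left ↔ pW.left z ∈ zs) := by
  obtain ⟨U, g, u, hg, hgu, H⟩ := exists_multiSplit k0.left t zs hzs
  let B := overBC k0 g
  obtain ⟨V, -, hVf, hVu⟩ := H _ _ _ (IsPullback.of_hasPullback k0.left g)
  let V0 : Over S := Over.mk (V.ι ≫ B.V'.hom)
  let m : V0 ⟶ B.V' := Over.homMk V.ι rfl
  refine ⟨B.T', B.V', V0, B.c', u, B.fst', B.snd', m, hg, hgu, B.sq, ?_, ?_, ?_⟩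
  · change IsOpenImmersion V.ι
    infer_instance
  · change IsFinite (V.ι ≫ pullback.snd k0.left g)
    exact hVf
  · intro z hz
    have : Set.range m.left = (V : Set ↥(pullback k0.left g)) := Scheme.Opens.range_ι V
    rw [this]
    exact hVu z hz

set_option maxHeartbeats 800000 in
/-- **Étale localization at finitely many quasi-finite points of a fibre** of a separated, locally
finite type morphism of algebraic spaces. -/
theorem exists_etale_multiSplit {X Y : Sp S} (hX : IsAlgSpace X) (hY : IsAlgSpace Y) (f : X ⟶ Y)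
    (y : Points Y) (xs : Finset (Points X)) (hxs : ∀ x ∈ xs, Points.map f x = y)
    (hf1 : LocP @LocallyOfFiniteType f) (hf2 : IsSeparatedMor f)
    (hf3 : ∀ x ∈ xs, HasAtMor QfQ f x) (hf4 : IsQuasiCompactMor f ∨ IsDecent Y) :
    ∃ (T' V0 : Over S) (a : (yon S).obj T' ⟶ Y) (u : T'.left) (q : V0 ⟶ T')
      (c : (yon S).obj V0 ⟶ X),
      RepWith @Etale a ∧ Points.ofPt a u = y ∧ c ≫ f = (yon S).map q ≫ a ∧ IsFinite q.left ∧
      (∀ v : V0.left, q.left v = u → Points.ofPt c v ∈ xs) ∧
      ∀ (P : Sp S) (prX : P ⟶ X) (prU : P ⟶ (yon S).obj T'), IsPullback prX prU f a →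
        ∀ l : (yon S).obj V0 ⟶ P, l ≫ prX = c → l ≫ prU = (yon S).map q →
          RepWith @IsOpenImmersion l ∧
          ∀ w : Points P, w ∉ Set.range (Points.map l) →
            Points.map prU w = Points.ofScheme T' u → Points.map prX w ∉ xs := by
  classical
  obtain ⟨V1, b, hbe, hbs⟩ := hY.atlas
  obtain ⟨t, ht⟩ := surjective_ofPt b hbs y
  obtain ⟨X1, e1, f1, sq1⟩ : ∃ (X1 : Sp S) (e1 : X1 ⟶ X) (f1 : X1 ⟶ (yon S).obj V1),
    IsPullback e1 f1 f b := ⟨_, _, _, IsPullback.of_hasPullback f b⟩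
  have hV1 : IsAlgSpace ((yon S).obj V1) := IsAlgSpace.yon_obj V1
  have hX1 : IsAlgSpace X1 := isAlgSpace_of_isPullback hY.diag hX hV1 f b e1 f1 sq1
  have hf1' : LocP @LocallyOfFiniteType f1 :=
    locP_of_isPullback @LocallyOfFiniteType hX hY hV1 hX1 f b e1 f1 sq1 hf1
  have hqfbc : ∀ z : Points X1, HasAtMor QfQ f1 z ↔ HasAtMor QfQ f (Points.map e1 z) :=
    fun z => Groth.Agent.Helper2.QfAtBCSp.hasAtMor_qf_bc_iff hX hY hX1 hV1 f b e1 f1 sq1 hf1 z
  -- finiteness of the set of points over `t` and `xs`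
  have hfinx : ∀ x ∈ xs, {z : Points X1 | Points.map e1 z = x ∧
      Points.map f1 z = Points.ofScheme V1 t}.Finite := by
    intro x hx
    rcases hf4 with hqc | hd
    · exact Groth.Agent.Helper2.QfFibreProd.main hX hY hV1 hX1 f b e1 f1 sq1 x
        (Points.ofScheme V1 t) ⟨hf1, hqc⟩ (hf3 x hx)
    · obtain ⟨r, hr, hm, -⟩ := hd y
      have h1 := Groth.Agent.Helper2.FibreProdFiniteB.main hY b f f1 e1 sq1.flip
        (Points.ofScheme V1 t) x
        (by rw [← Points.ofPt_eq_map_ofScheme, ht, hxs x hx])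
        ⟨r, by rw [hr, hxs x hx], hm⟩ (hf3 x hx)
      refine h1.subset ?_
      rintro z ⟨hz1, hz2⟩
      exact ⟨hz2, hz1⟩
  -- the quasi-finite locus
  obtain ⟨O, hOdef⟩ : ∃ O : Set (Points X1), O = {p : Points X1 | HasAtMor QfQ f1 p} := ⟨_, rfl⟩
  have hO : IsOpen O := by
    rw [hOdef]
    exact Groth.Agent.Helper2.QfLocusSp.isOpen_qfLocus hX1 hV1 f1 hf1'
  have hW : IsAlgSpace (openSub X1 O) := isAlgSpace_openSub hX1 hO
  have hjo : RepWith @IsOpenImmersion (openSubι X1 O) := repWith_isOpenImmersion_openSubι X1 hO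
  have hk : LocP (@LocallyQuasiFinite ⊓ @LocallyOfFiniteType) (openSubι X1 O ≫ f1) :=
    Groth.Agent.Helper2.QfLocusSp.locP_lqf_of_range_subset hX1 hV1 f1 hf1' (openSubι X1 O) hjo
      (by rw [range_points_map_openSubι, hOdef])
  have hf1s : IsSeparatedMor f1 := repWith_diagonal_of_isPullback @IsClosedImmersion sq1 hf2
  have hks : IsSeparatedMor (openSubι X1 O ≫ f1) :=
    repWith_diagonal_comp @IsClosedImmersion (openSubι X1 O) f1 (isSeparatedMor_of_mono _) hf1s
  obtain ⟨W0, ⟨ε⟩⟩ := exists_iso_yon_of_sep_lqf hW (openSubι X1 O ≫ f1) hks hk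
  have hrange : Set.range (Points.map (openSubι X1 O)) = O := range_points_map_openSubι X1 O
  have hjinj : Function.Injective (Points.map (openSubι X1 O)) :=
    injective_points_map_of_mono (openSubι X1 O)
  obtain ⟨j, hj⟩ : ∃ j : openSub X1 O ⟶ X1, j = openSubι X1 O := ⟨_, rfl⟩
  rw [← hj] at hk hjo hks hrange hjinj
  obtain ⟨k0, hk0⟩ : ∃ k0 : W0 ⟶ V1, (yon S).map k0 = ε.hom ≫ j ≫ f1 :=
    ⟨(yon S).preimage _, (yon S).map_preimage _⟩
  have hk0P : LocP (@LocallyQuasiFinite ⊓ @LocallyOfFiniteType) ((yon S).map k0) := by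
    rw [hk0]
    exact locP_comp _ (IsAlgSpace.yon_obj W0) hW hV1 ε.hom (j ≫ f1)
      (locP_of_isIso _ hW.diag ε.hom) hk
  have hk0' := locP_yon_map hk0P
  have : LocallyOfFiniteType k0.left := hk0'.2
  have : LocallyQuasiFinite k0.left := hk0'.1
  have : IsSeparated k0.left := by
    rw [← isSeparatedMor_yon_map_iff, hk0]
    exact repWith_diagonal_comp @IsClosedImmersion ε.hom (j ≫ f1) (isSeparatedMor_of_mono _) hks
  -- the finite set of points of `W0`
  obtain ⟨ι, hι⟩ : ∃ ι : W0.left → Points X1, ι = fun w0 => Points.ofPt (ε.hom ≫ j) w0 :=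
    ⟨_, rfl⟩
  have hιinj : Function.Injective ι := by
    intro w0 w0' h
    rw [hι] at h
    change Points.ofPt (ε.hom ≫ j) w0 = Points.ofPt (ε.hom ≫ j) w0' at h
    rw [Points.ofPt_eq_map_ofScheme (ε.hom ≫ j) w0, Points.ofPt_eq_map_ofScheme (ε.hom ≫ j) w0',
      Points.map_comp, Points.map_comp] at h
    have h1 := hjinj h
    have h2 : Function.Injective (Points.map ε.hom) := by
      intro p p' hp
      have := congrArg (Points.map ε.inv) hp
      rwa [← Points.map_comp, ← Points.map_comp, ε.hom_inv_id, Points.map_id, Points.map_id]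
        at this
    exact (Points.schemeHomeo W0).injective (h2 h1)
  have hιe : ∀ w0, Points.map e1 (ι w0) = Points.ofPt (ε.hom ≫ j ≫ e1) w0 := by
    intro w0
    rw [hι]
    change Points.map e1 (Points.ofPt (ε.hom ≫ j) w0) = _
    rw [Points.map_ofPt, Category.assoc]
  have hιf : ∀ w0, Points.map f1 (ι w0) = Points.ofScheme V1 (k0.left w0) := by
    intro w0
    rw [hι]
    change Points.map f1 (Points.ofPt (ε.hom ≫ j) w0) = _
    rw [Points.map_ofPt, Category.assoc, ← hk0, Points.ofPt_eq_map_ofScheme]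
    exact Points.map_yon_map_apply k0 w0
  obtain ⟨Z', hZ'⟩ : ∃ Z' : Set W0.left, Z' = {w0 | k0.left w0 = t ∧
      Points.ofPt (ε.hom ≫ j ≫ e1) w0 ∈ xs} := ⟨_, rfl⟩
  have hZ'fin : Z'.Finite := by
    have hbig : (⋃ x ∈ xs, {z : Points X1 | Points.map e1 z = x ∧
        Points.map f1 z = Points.ofScheme V1 t}).Finite :=
      Set.Finite.biUnion (Finset.finite_toSet xs) (fun x hx => hfinx x hx)
    refine (hbig.preimage (hιinj.injOn)).subset ?_
    intro w0 hw0
    rw [hZ'] at hw0
    simp only [Set.mem_preimage, Set.mem_iUnion, Set.mem_ofPred_eq]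
    exact ⟨_, hw0.2, (hιe w0), by rw [hιf, hw0.1]⟩
  have hZ't : ∀ z ∈ hZ'fin.toFinset, k0.left z = t := by
    intro z hz
    have : z ∈ Z' := by simpa using hz
    rw [hZ'] at this
    exact this.1
  obtain ⟨T', Q, V0, g, u, pW, pT, m, hge, hgu, sqQ, hmo, hfin, hfib⟩ :=
    exists_over_multiSplit k0 t hZ'fin.toFinset hZ't
  have hk0b : ε.hom ≫ j ≫ f1 ≫ b = (yon S).map k0 ≫ b := by
    rw [hk0, Category.assoc, Category.assoc]
  have hQw : (yon S).map pW ≫ (yon S).map k0 = (yon S).map pT ≫ (yon S).map g := by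
    rw [← Functor.map_comp, ← Functor.map_comp, sqQ.w]
  have hmemZ : ∀ w0 : W0.left, w0 ∈ hZ'fin.toFinset ↔
      (k0.left w0 = t ∧ Points.ofPt (ε.hom ≫ j ≫ e1) w0 ∈ xs) := by
    intro w0
    rw [Set.Finite.mem_toFinset, hZ']
    rfl
  refine ⟨T', V0, (yon S).map g ≫ b, u, m ≫ pT, (yon S).map (m ≫ pW) ≫ ε.hom ≫ j ≫ e1,
    repWith_comp @Etale ((repWith_yon_map_iff @Etale g).2 hge) hbe, ?_, ?_, hfin, ?_, ?_⟩
  · rw [ofPt_yon_map_comp, hgu, ht]
  · -- commutativity
    calc ((yon S).map (m ≫ pW) ≫ ε.hom ≫ j ≫ e1) ≫ f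
        = (yon S).map m ≫ (yon S).map pW ≫ ε.hom ≫ j ≫ e1 ≫ f := by
          simp only [Functor.map_comp, Category.assoc]
      _ = (yon S).map m ≫ (yon S).map pW ≫ ε.hom ≫ j ≫ f1 ≫ b := by rw [sq1.w]
      _ = (yon S).map m ≫ (yon S).map pW ≫ (yon S).map k0 ≫ b := by rw [hk0b]
      _ = (yon S).map m ≫ (yon S).map pT ≫ (yon S).map g ≫ b := by
          rw [← Category.assoc ((yon S).map pW), hQw, Category.assoc]
      _ = (yon S).map (m ≫ pT) ≫ (yon S).map g ≫ b := by
          simp only [Functor.map_comp, Category.assoc]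
  · -- points of `V0` over `u` map into `xs`
    intro v hv
    rw [ofPt_yon_map_comp]
    have h1 : pW.left (m.left v) ∈ hZ'fin.toFinset :=
      (hfib (m.left v) hv).1 ⟨v, rfl⟩
    exact ((hmemZ _).1 h1).2
  · -- the open immersion and the complement
    intro P prX prU sqP l hl1 hl2
    obtain ⟨p1, hp1a, hp1b⟩ : ∃ p1 : P ⟶ X1, p1 ≫ e1 = prX ∧ p1 ≫ f1 = prU ≫ (yon S).map g :=
      ⟨sq1.lift prX (prU ≫ (yon S).map g) (by rw [sqP.w, Category.assoc]),
        sq1.lift_fst _ _ _, sq1.lift_snd _ _ _⟩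
    have sqR : IsPullback prU p1 ((yon S).map g) f1 := by
      refine IsPullback.of_bot ?_ hp1b.symm sq1.flip
      rw [hp1a]
      exact sqP.flip
    have sqQ' : IsPullback ((yon S).map pT) ((yon S).map pW ≫ ε.hom) ((yon S).map g) (j ≫ f1) := by
      have h0 := sqQ.map (yon S)
      rw [hk0] at h0
      refine IsPullback.flip (IsPullback.of_iso h0 (Iso.refl _) ε (Iso.refl _) (Iso.refl _)
        ?_ ?_ ?_ ?_)
      · simp
      · simp
      · simp
      · simp
    obtain ⟨n, hn1, hn2⟩ : ∃ n : (yon S).obj Q ⟶ P, n ≫ prU = (yon S).map pT ∧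
        n ≫ p1 = ((yon S).map pW ≫ ε.hom) ≫ j :=
      ⟨sqR.lift ((yon S).map pT) (((yon S).map pW ≫ ε.hom) ≫ j) (by
          rw [Category.assoc]; exact sqQ'.w),
        sqR.lift_fst _ _ _, sqR.lift_snd _ _ _⟩
    have sqL : IsPullback n ((yon S).map pW ≫ ε.hom) p1 j := by
      refine IsPullback.of_right ?_ hn2 sqR
      rw [hn1]
      exact sqQ'
    have hn : RepWith @IsOpenImmersion n := repWith_of_isPullback @IsOpenImmersion sqL.flip hjo
    have hm : RepWith @IsOpenImmersion ((yon S).map m) :=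
      (repWith_yon_map_iff @IsOpenImmersion m).2 hmo
    have hl : l = (yon S).map m ≫ n := by
      apply sqP.hom_ext
      · rw [hl1, Category.assoc, ← hp1a, ← Category.assoc n, hn2]
        simp only [Functor.map_comp, Category.assoc]
      · rw [hl2, Category.assoc, hn1, Functor.map_comp]
    refine ⟨?_, ?_⟩
    · rw [hl]
      exact repWith_comp @IsOpenImmersion hm hn
    · intro w hw hwu hwx
      apply hw
      -- the image of `w` in `X1` lies in the quasi-finite locus
      have hz1e : Points.map e1 (Points.map p1 w) = Points.map prX w := by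
        rw [← Points.map_comp, hp1a]
      have hz1O : Points.map p1 w ∈ Set.range (Points.map j) := by
        rw [hrange, hOdef]
        change HasAtMor QfQ f1 (Points.map p1 w)
        rw [hqfbc, hz1e]
        exact hf3 _ hwx
      obtain ⟨ω, hω⟩ := hz1O
      obtain ⟨ν, hν1, hν2⟩ := points_exists_of_isPullback j p1 n ((yon S).map pW ≫ ε.hom) sqL
        w ω hω.symm
      obtain ⟨ζ, rfl⟩ := (Points.schemeHomeo Q).surjective ν
      change Points.map n (Points.ofScheme Q ζ) = w at hν1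
      change Points.map ((yon S).map pW ≫ ε.hom) (Points.ofScheme Q ζ) = ω at hν2
      -- `ζ` lies over `u`
      have hζu : pT.left ζ = u := by
        have h1 : Points.map ((yon S).map pT) (Points.ofScheme Q ζ) = Points.ofScheme T' u := by
          rw [← hn1, Points.map_comp, hν1, hwu]
        have h2 := Points.map_yon_map_apply pT ζ
        change Points.map ((yon S).map pT) (Points.ofScheme Q ζ) =
          Points.ofScheme T' (pT.left ζ) at h2
        rw [h1] at h2
        exact ((Points.schemeHomeo T').injective h2).symm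
      -- `pW ζ` lies in the finite set
      have hζZ : pW.left ζ ∈ hZ'fin.toFinset := by
        rw [hmemZ]
        refine ⟨?_, ?_⟩
        · have h1 := congrArg (fun φ => φ.left ζ) sqQ.w
          change k0.left (pW.left ζ) = g.left (pT.left ζ) at h1
          rw [h1, hζu, hgu]
        · have h1 : Points.ofPt (ε.hom ≫ j ≫ e1) (pW.left ζ) = Points.map prX w := by
            rw [← ofPt_yon_map_comp, Points.ofPt_eq_map_ofScheme, ← hz1e, ← hω, ← hν2,
              ← Points.map_comp, ← Points.map_comp]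
            congr 1
          rw [h1]
          exact hwx
      obtain ⟨v, hv⟩ := (hfib ζ hζu).2 hζZ
      refine ⟨Points.ofScheme V0 v, ?_⟩
      rw [hl, Points.map_comp]
      have h2 := Points.map_yon_map_apply m v
      change Points.map ((yon S).map m) (Points.ofScheme V0 v) =
        Points.ofScheme Q (m.left v) at h2
      rw [h2, hv, hν1]

end Groth.Agent.Helper2.Lqf
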