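import Mathlib
import Groth.Prelude.Def_AlgSp4
import Groth.Agent.Lib.Helper2.Lqf.Main

/-!
# Open subschemes of a representable sheaf cut out by open sets of points; the image of a
quasi-affine open of an étale base change (helper2)
-/

set_option autoImplicit false
universe u
open CategoryTheory CategoryTheory.Limits AlgebraicGeometry Opposite AlgSp
open Groth.Agent.Helper2.AlgSpBasic Groth.Agent.Helper2.EtaleLocal

namespace Groth.Agent.Helper2.Lqf

variable {S : Scheme.{u}}

/-- The homeomorphism on points induced by an isomorphism of sheaves. -/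
noncomputable def pointsHomeo {X Y : Sp S} (e : X ≅ Y) : Points X ≃ₜ Points Y where
  toFun := Points.map e.hom
  invFun := Points.map e.inv
  left_inv p := by rw [← Points.map_comp, e.hom_inv_id, Points.map_id]
  right_inv p := by rw [← Points.map_comp, e.inv_hom_id, Points.map_id]
  continuous_toFun := Points.continuous_map _
  continuous_invFun := Points.continuous_map _

/-- An open set of points of a representable sheaf is the set of points of an open subscheme. -/
theorem exists_opens_of_isOpen {Wx : Over S} {X : Sp S} (ex : (yon S).obj Wx ≅ X)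
    (I : Set (Points X)) (hI : IsOpen I) :
    ∃ W₀ : Wx.left.Opens,
      Set.range (Points.map ((yon S).map (opensOverι W₀) ≫ ex.hom)) = I ∧
      (IsCompact I → CompactSpace ↥(opensOver W₀).left) := by
  let φ : Wx.left ≃ₜ Points X := (Points.schemeHomeo Wx).trans (pointsHomeo ex)
  have hφ : ∀ x, φ x = Points.map ex.hom (Points.schemeHomeo Wx x) := fun x => rfl
  refine ⟨⟨φ ⁻¹' I, hI.preimage φ.continuous⟩, ?_, fun hc => ?_⟩
  · apply Set.Subset.antisymm
    · rintro _ ⟨p, rfl⟩
      obtain ⟨w, rfl⟩ := (Points.schemeHomeo _).surjective p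
      rw [Points.map_comp, Points.map_yon_map_apply, ← hφ]
      exact w.2
    · intro x hx
      obtain ⟨y, rfl⟩ := φ.surjective x
      refine ⟨Points.schemeHomeo _ (⟨y, hx⟩ : (⟨φ ⁻¹' I, hI.preimage φ.continuous⟩ :
        Wx.left.Opens)), ?_⟩
      rw [Points.map_comp, Points.map_yon_map_apply, ← hφ]
      rfl
  · have h1 : IsCompact (φ ⁻¹' I) := φ.isCompact_preimage.mpr hc
    exact isCompact_iff_compactSpace.mp h1

/-- The image of a quasi-affine open of an étale base change of a space separated and locally
quasi-finite over a scheme is a quasi-compact open subscheme. -/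
theorem exists_qc_open_subscheme_of_image {T T' : Over S} [IsAffine T'.left] (e : T' ⟶ T)
    [Etale e.left] {X P V' : Sp S} (hX : IsAlgSpace X) (hV' : IsAlgSpace V')
    (f : X ⟶ (yon S).obj T) (hsep : IsSeparatedMor f)
    (hqf : LocP (@LocallyQuasiFinite ⊓ @LocallyOfFiniteType) f)
    (p1 : P ⟶ (yon S).obj T') (p2 : P ⟶ X) (sq : IsPullback p2 p1 f ((yon S).map e))
    (j : V' ⟶ P) (hj : RepWith @IsOpenImmersion j) (hqa : IsQuasiAffineMor (j ≫ p1)) :
    ∃ (W : Over S) (i : (yon S).obj W ⟶ X), RepWith @IsOpenImmersion i ∧ CompactSpace ↥W.left ∧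
      Set.range (Points.map i) = Set.range (Points.map (j ≫ p2)) := by
  obtain ⟨Wx, ⟨ex⟩⟩ := exists_iso_yon_of_sep_lqf hX f hsep hqf
  have hp2 : RepWith @Etale p2 :=
    repWith_of_isPullback @Etale sq.flip ((repWith_yon_map_iff @Etale e).2 inferInstance)
  have hjp : RepWith @Etale (j ≫ p2) :=
    repWith_comp @Etale (repWith_isOpenImmersion_le_etale hj) hp2
  have hopen : IsOpen (Set.range (Points.map (j ≫ p2))) :=
    (isOpenMap_points_of_isEtaleMor hV' (j ≫ p2)
      (isEtaleMor_of_locP_etale hV' hX _ (locP_of_repWith @Etale hV'.diag _ hjp))).isOpen_range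
  have hcomp : IsCompact (Set.range (Points.map (j ≫ p2))) := by
    obtain ⟨W', i', fst, sqW, hW'⟩ := hqa (Z := T') inferInstance (𝟙 _)
    have : CompactSpace ↥W'.left := hW'.toCompactSpace
    have : CompactSpace (Points ((yon S).obj W')) := (Points.schemeHomeo W').compactSpace
    have hrange : Set.range (Points.map (j ≫ p2)) = Set.range (Points.map (fst ≫ j ≫ p2)) := by
      apply Set.Subset.antisymm
      · rintro _ ⟨y, rfl⟩
        obtain ⟨p, hp, -⟩ := points_exists_of_isPullback (𝟙 _) (j ≫ p1) fst ((yon S).map i') sqW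
          y (Points.map (j ≫ p1) y) (by rw [Points.map_id])
        exact ⟨p, by rw [Points.map_comp, hp]⟩
      · rintro _ ⟨p, rfl⟩
        exact ⟨Points.map fst p, by rw [← Points.map_comp]⟩
    rw [hrange]
    exact isCompact_range (Points.continuous_map _)
  obtain ⟨W₀, hW₀, hc⟩ := exists_opens_of_isOpen ex _ hopen
  exact ⟨opensOver W₀, (yon S).map (opensOverι W₀) ≫ ex.hom,
    repWith_comp @IsOpenImmersion
      ((repWith_yon_map_iff @IsOpenImmersion _).2 (inferInstanceAs (IsOpenImmersion W₀.ι)))
      (repWith_of_isIso @IsOpenImmersion ex.hom), hc hcomp, hW₀⟩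

end Groth.Agent.Helper2.Lqf
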